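import Groth.Agent.Lib.ModSiteLoc.Ops
import Groth.Agent.Lib.RMorLocal.Pull
import Groth.Agent.Lib.RMorLocal.Flat
import Groth.Agent.Lib.RMorLocal.Unit

/-!
# The inverse image of a module of finite type is of finite type
-/

set_option autoImplicit false
set_option linter.style.haveILetI false

universe u

open CategoryTheory Limits Opposite

namespace Groth.Agent.Lib.ModSiteLoc.Pull

open Groth.Agent.Lib.ModSiteLoc.Basic Groth.Agent.Lib.RMorLocal

variable {C D : Type u} [SmallCategory C] [SmallCategory D] {J : GrothendieckTopology C}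
  {K : GrothendieckTopology D} {O_C : Sheaf J CommRingCat.{u}} {O_D : Sheaf K CommRingCat.{u}}
  (f : _root_.ModSite.RMor O_C O_D) {M : _root_.ModSite.Mod O_D}

/-- The pullback of a section. -/
noncomputable abbrev pls {c : C} {d : D} (ψ : c ⟶ f.fn.obj d) (m : _root_.ModSite.sect M d) :
    _root_.ModSite.sect (f.pull.obj M) c :=
  Pull.pl f M ψ m

lemma rs_pls {c c' : C} {d : D} (h : c' ⟶ c) (ψ : c ⟶ f.fn.obj d) (m : _root_.ModSite.sect M d) :
    rs (f.pull.obj M) h (pls f ψ m) = pls f (h ≫ ψ) m :=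
  Pull.res_pl f M h ψ m

lemma pls_rs {c : C} {d d' : D} (ψ : c ⟶ f.fn.obj d') (g : d' ⟶ d) (m : _root_.ModSite.sect M d) :
    pls f ψ (rs M g m) = pls f (ψ ≫ f.fn.map g) m :=
  Pull.pl_res f M ψ g m

lemma pls_sum {c : C} {d : D} (ψ : c ⟶ f.fn.obj d) {ι : Type*} [Fintype ι]
    (a : ι → O_D.obj.obj (op d)) (m : ι → _root_.ModSite.sect M d) :
    pls f ψ (∑ i, a i • m i) = ∑ i, Pull.sh f ψ (a i) • pls f ψ (m i) := by
  have h : ∀ (s : Finset ι), pls f ψ (∑ i ∈ s, a i • m i) = ∑ i ∈ s, Pull.sh f ψ (a i) • pls f ψ (m i) := by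
    classical
    intro s
    induction s using Finset.induction with
    | empty =>
      simp only [Finset.sum_empty]
      exact (congrArg _ (map_zero (Pull.pm f M d))).trans (map_zero _)
    | insert i s hi ih =>
      rw [Finset.sum_insert hi, Finset.sum_insert hi, ← ih]
      refine (Pull.pl_add f M ψ _ _).trans (congrArg₂ (· + ·) ?_ rfl)
      exact Pull.pl_smul f M ψ (a i) (m i)
  exact h Finset.univ

/-- The pullback of generators generates. -/
theorem gen_pull {c : C} {d : D} (ψ : c ⟶ f.fn.obj d) {n : ℕ} {s : Fin n → _root_.ModSite.sect M d}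
    (hs : Gen M s) : Gen (f.pull.obj M) fun i => pls f ψ (s i) := by
  classical
  intro W v t
  refine ⟨Ops.genSieve (fun i => pls f ψ (s i)) v t, ?_, fun W' g hg => hg⟩
  obtain ⟨S, hS, hlift⟩ := Pull.exists_cover_eps f M (c := W) (fun _ : Fin 1 => t)
  refine J.transitive hS _ fun W₁ g hg => ?_
  obtain ⟨z, hz⟩ := hlift g hg
  obtain ⟨N, x, α, hα⟩ := Flat.exists_common_support z
  have hw : rs (f.pull.obj M) g t = ∑ k, α 0 k • pls f (x k).1.2 (x k).2 := by
    refine (hz 0).symm.trans ((congrArg _ (hα 0)).trans ?_)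
    rw [map_sum]
    exact Finset.sum_congr rfl fun k _ =>
      (((Pull.eps f M).app (op W₁)).hom.map_smul _ _).trans (congrArg (_ • ·) (Pull.eps_b f M _ _))
  have hk : ∀ k : Fin N, Ops.genSieve (fun i => pls f ψ (s i)) (g ≫ v) (pls f (x k).1.2 (x k).2) ∈ J W₁ := by
    intro k
    obtain ⟨T, hT, hT'⟩ := Basic.exists_cover_prod (J := J) K f.fn (x k).1.2 ((g ≫ v) ≫ ψ)
    refine J.transitive hT _ fun W₂ h hh => ?_
    obtain ⟨e, a, b, ψ₂, ha, hb⟩ := hT' h hh
    obtain ⟨R, hR, hR'⟩ := hs b (rs M a (x k).2)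
    obtain ⟨R₂, hR₂, hR₂'⟩ := Basic.exists_cover_lift (J := J) K f.fn ψ₂ hR
    refine J.superset_covering (fun W₃ p hp => ?_) hR₂
    obtain ⟨e', q, ψ₃, hq, hψ₃⟩ := hR₂' p hp
    obtain ⟨A, hA⟩ := hR' q hq
    refine ⟨fun i => Pull.sh f ψ₃ (A i), ?_⟩
    have h1 := congrArg (pls f ψ₃) hA
    rw [pls_sum, pls_rs, pls_rs] at h1
    simp only [pls_rs, Functor.map_comp, reassoc_of% hψ₃, hψ₃, Category.assoc, ha, hb] at h1
    rw [rs_pls]
    simp only [rs_pls, Category.assoc]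
    exact h1
  obtain ⟨T, hT, hT'⟩ := exists_forall
    (p := fun k W' h => Ops.genSieve (fun i => pls f ψ (s i)) (g ≫ v) (pls f (x k).1.2 (x k).2) h)
    (fun k _ _ h h' hh => (Ops.genSieve _ _ _).downward_closed hh h')
    (fun k => ⟨_, hk k, fun _ _ h => h⟩)
  refine J.superset_covering (fun W₂ h hh => ?_) hT
  choose A hA using hT' h hh
  refine ⟨fun i => ∑ k, rr O_C h (α 0 k) * A k i, ?_⟩
  rw [← rs_rs g h t, hw, rs_sum]
  simp only [hA, Finset.smul_sum, Finset.sum_smul, smul_smul, Category.assoc]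
  exact Finset.sum_comm

/-- The inverse image of a module of finite type is of finite type. -/
theorem isFiniteType_pull (hM : ∀ X : D, ∃ S ∈ K X, ∀ ⦃W : D⦄ (g : W ⟶ X), S g → FTAt M W)
    (c : C) : ∃ S ∈ J c, ∀ ⦃W : C⦄ (g : W ⟶ c), S g → FTAt (f.pull.obj M) W := by
  obtain ⟨S, hS, hS'⟩ := Basic.exists_cover_obj (J := J) K f.fn c
  refine Ops.exists_trans (fun _ _ v h => FTAt.res h v) hS fun W g hg => ?_
  obtain ⟨d, ⟨ψ⟩⟩ := hS' g hg
  obtain ⟨T, hT, hT'⟩ := hM d
  obtain ⟨R, hR, hR'⟩ := Basic.exists_cover_lift (J := J) K f.fn ψ hT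
  refine ⟨R, hR, fun W' h hh => ?_⟩
  obtain ⟨d', q, ψ', hq, -⟩ := hR' h hh
  obtain ⟨n, s, hs⟩ := hT' q hq
  exact FTAt.mk' (gen_pull f ψ' hs)

end Groth.Agent.Lib.ModSiteLoc.Pull
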