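import Groth.Agent.Lib.ModSiteLoc.Free
import Groth.Agent.Lib.ModSiteLoc.Pull
import Groth.Agent.Lib.RMorLocal.Mono
import Mathlib.LinearAlgebra.TensorProduct.Vanishing

/-!
# The inverse image of quasi-coherent, finitely presented and locally free modules
-/

set_option autoImplicit false
set_option linter.style.haveILetI false

universe u

open CategoryTheory Limits Opposite TensorProduct

namespace Groth.Agent.Lib.ModSiteLoc.PullFree

open Groth.Agent.Lib.ModSiteLoc.Basic Groth.Agent.Lib.ModSiteLoc.Free Groth.Agent.Lib.RMorLocal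
  Groth.Agent.Lib.ModSiteLoc.Pull

variable {C D : Type u} [SmallCategory C] [SmallCategory D] {J : GrothendieckTopology C}
  {K : GrothendieckTopology D} {O_C : Sheaf J CommRingCat.{u}} {O_D : Sheaf K CommRingCat.{u}}
  (f : _root_.ModSite.RMor O_C O_D) {M N : _root_.ModSite.Mod O_D} {ι κ : Type u}

/-- The structure map along `ψ`. -/
noncomputable abbrev sh {c : C} {d : D} (ψ : c ⟶ f.fn.obj d) :
    O_D.obj.obj (op d) →+* O_C.obj.obj (op c) := RMorLocal.Pull.sh f ψ

lemma rr_sh {c c' : C} {d : D} (h : c' ⟶ c) (ψ : c ⟶ f.fn.obj d) (r : O_D.obj.obj (op d)) :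
    rr O_C h (sh f ψ r) = sh f (h ≫ ψ) r := Kill.sh_res h ψ r

lemma sh_rr {c : C} {d d' : D} (ψ : c ⟶ f.fn.obj d') (a : d' ⟶ d) (r : O_D.obj.obj (op d)) :
    sh f ψ (rr O_D a r) = sh f (ψ ≫ f.fn.map a) r := (Kill.sh_map ψ a r).symm

lemma ap_pls (q : M ⟶ N) {c : C} {d : D} (ψ : c ⟶ f.fn.obj d) (m : _root_.ModSite.sect M d) :
    ap (f.pull.map q) (pls f ψ m) = pls f ψ (ap q m) :=
  Mono.map_pl q ψ m

lemma pls_lc {c : C} {d : D} (ψ : c ⟶ f.fn.obj d) (s : ι → _root_.ModSite.sect M d)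
    (a : ι →₀ O_D.obj.obj (op d)) :
    pls f ψ (lc s a) = lc (fun i => pls f ψ (s i)) (a.mapRange (sh f ψ) (map_zero _)) := by
  classical
  have h0 : pls f ψ (0 : _root_.ModSite.sect M d) = 0 :=
    (congrArg _ (map_zero (RMorLocal.Pull.pm f M d))).trans (map_zero _)
  induction a using Finsupp.induction_linear with
  | zero => rw [map_zero, Finsupp.mapRange_zero, map_zero]; exact h0
  | add a b ha hb =>
    rw [map_add, Finsupp.mapRange_add (map_add _), map_add, ← ha, ← hb]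
    exact RMorLocal.Pull.pl_add f M ψ _ _
  | single i r =>
    rw [Finsupp.mapRange_single, Finsupp.linearCombination_single, Finsupp.linearCombination_single]
    exact RMorLocal.Pull.pl_smul f M ψ r (s i)

variable (ι) in
/-- The inverse image of a free module is free. -/
noncomputable def θ : f.pull.obj (FM O_D ι) ≅ FM O_C ι :=
  haveI : PreservesColimitsOfSize.{u, u} f.pull := f.adj.leftAdjoint_preservesColimits
  (SheafOfModules.mapFreeIso f.pull ι (Unit.pullUnitIso f).symm).symm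

/-- The section of a free module attached to `z` along `ψ`. -/
noncomputable def T {c : C} {d : D} (ψ : c ⟶ f.fn.obj d) (z : _root_.ModSite.sect (FM O_D ι) d) :
    _root_.ModSite.sect (FM O_C ι) c :=
  ap (θ f ι).hom (pls f ψ z)

lemma T_bas {c : C} {d : D} (ψ : c ⟶ f.fn.obj d) (i : ι) : T f ψ (bas O_D d i) = bas O_C c i := by
  haveI : PreservesColimitsOfSize.{u, u} f.pull := f.adj.leftAdjoint_preservesColimits
  refine (congrArg (ap (θ f ι).hom) (ap_pls f (SheafOfModules.ιFree (R := _root_.ModSite.ringSh O_D) i)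
    ψ (1 : O_D.obj.obj (op d))).symm).trans ?_
  have h := SheafOfModules.map_ιFree_mapFreeIso_inv f.pull ι (Unit.pullUnitIso f).symm i
  refine (congrArg (fun q => ap q (pls f ψ (1 : O_D.obj.obj (op d)))) h).trans ?_
  refine congrArg (ap (SheafOfModules.ιFree (R := _root_.ModSite.ringSh O_C) i)) ?_
  exact (Unit.unitHom_pl f ψ _).trans (map_one (sh f ψ))

lemma rs_T {c c' : C} {d : D} (h : c' ⟶ c) (ψ : c ⟶ f.fn.obj d)
    (z : _root_.ModSite.sect (FM O_D ι) d) : rs (FM O_C ι) h (T f ψ z) = T f (h ≫ ψ) z := by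
  rw [T, ← ap_rs, rs_pls]
  rfl

lemma T_rs {c : C} {d d' : D} (ψ : c ⟶ f.fn.obj d') (g : d' ⟶ d)
    (z : _root_.ModSite.sect (FM O_D ι) d) : T f ψ (rs (FM O_D ι) g z) = T f (ψ ≫ f.fn.map g) z :=
  congrArg (ap (θ f ι).hom) (pls_rs f ψ g z)

lemma T_lc {c : C} {d : D} (ψ : c ⟶ f.fn.obj d) (y : κ → _root_.ModSite.sect (FM O_D ι) d)
    (a : κ →₀ O_D.obj.obj (op d)) :
    T f ψ (lc y a) = lc (fun k => T f ψ (y k)) (a.mapRange (sh f ψ) (map_zero _)) :=
  (congrArg (ap (θ f ι).hom) (pls_lc f ψ y a)).trans (ap_lc _ _ _)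

lemma T_lc_bas {c : C} {d : D} (ψ : c ⟶ f.fn.obj d) (a : ι →₀ O_D.obj.obj (op d)) :
    T f ψ (lc (bas O_D d) a) = lc (bas O_C c) (a.mapRange (sh f ψ) (map_zero _)) :=
  (T_lc f ψ _ a).trans (congrArg (fun t => lc t _) (funext fun i => T_bas f ψ i))

/-- The pullback of generators generates. -/
theorem genI_pull {c : C} {d : D} (ψ : c ⟶ f.fn.obj d) {s : ι → _root_.ModSite.sect M d}
    (hs : GenI s) : GenI fun i => pls f ψ (s i) := by
  classical
  intro W v t
  obtain ⟨S, hS, hlift⟩ := RMorLocal.Pull.exists_cover_eps f M (c := W) (fun _ : Fin 1 => t)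
  refine J.transitive hS _ fun W₁ g hg => ?_
  obtain ⟨z, hz⟩ := hlift g hg
  obtain ⟨n, x, α, hα⟩ := Flat.exists_common_support z
  have hw : rs (f.pull.obj M) g t = ∑ k, α 0 k • pls f (x k).1.2 (x k).2 := by
    refine (hz 0).symm.trans ((congrArg _ (hα 0)).trans ?_)
    rw [map_sum]
    exact Finset.sum_congr rfl fun k _ =>
      (((RMorLocal.Pull.eps f M).app (op W₁)).hom.map_smul _ _).trans
        (congrArg (_ • ·) (RMorLocal.Pull.eps_b f M _ _))
  have hk : ∀ k : Fin n, lcSieve (fun i => pls f ψ (s i)) (g ≫ v) (pls f (x k).1.2 (x k).2) ∈ J W₁ := by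
    intro k
    obtain ⟨R, hR, hR'⟩ := RMorLocal.Basic.exists_cover_prod (J := J) K f.fn (x k).1.2 ((g ≫ v) ≫ ψ)
    refine J.transitive hR _ fun W₂ h hh => ?_
    obtain ⟨e, a, b, ψ₂, ha, hb⟩ := hR' h hh
    obtain ⟨R₂, hR₂, hR₂'⟩ := RMorLocal.Basic.exists_cover_lift (J := J) K f.fn ψ₂
      (hs b (rs M a (x k).2))
    refine J.superset_covering (fun W₃ p hp => ?_) hR₂
    obtain ⟨e', q, ψ₃, ⟨A, hA⟩, hψ₃⟩ := hR₂' p hp
    refine ⟨A.mapRange (sh f ψ₃) (map_zero _), ?_⟩
    have h1 := congrArg (pls f ψ₃) hA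
    rw [pls_lc, pls_rs, pls_rs] at h1
    simp only [pls_rs, Functor.map_comp, reassoc_of% hψ₃, hψ₃, Category.assoc, ha, hb] at h1
    rw [rs_pls]
    simp only [rs_pls, Category.assoc]
    exact h1
  obtain ⟨R, hR, hR'⟩ := exists_forall
    (p := fun k W' h => lcSieve (fun i => pls f ψ (s i)) (g ≫ v) (pls f (x k).1.2 (x k).2) h)
    (fun k _ _ h h' hh => (lcSieve _ _ _).downward_closed hh h')
    (fun k => ⟨_, hk k, fun _ _ h => h⟩)
  refine J.superset_covering (fun W₂ h hh => ?_) hR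
  choose A hA using hR' h hh
  refine ⟨∑ k, rr O_C h (α 0 k) • A k, ?_⟩
  rw [← rs_rs g h t, hw, rs_sum, map_sum]
  simp only [hA, map_smul, Category.assoc]

/-- A relation between pulled back sections comes from relations between sections. -/
theorem exists_rel_decomp {c : C} {d : D} (ψ : c ⟶ f.fn.obj d) {s : ι → _root_.ModSite.sect M d}
    (hs : GenI s) (α : ι →₀ O_C.obj.obj (op c)) (h : lc (fun i => pls f ψ (s i)) α = 0) :
    ∃ S ∈ J c, ∀ ⦃c' : C⦄ (g : c' ⟶ c), S g → ∃ (e : D) (p : e ⟶ d) (ψ' : c' ⟶ f.fn.obj e)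
      (n : ℕ) (A : Fin n → (ι →₀ O_D.obj.obj (op e))) (y : Fin n → O_C.obj.obj (op c')),
      ψ' ≫ f.fn.map p = g ≫ ψ ∧ (∀ j, lc (fun i => rs M p (s i)) (A j) = 0) ∧
      α.mapRange (rr O_C g) (map_zero _) =
        ∑ j, y j • (A j).mapRange (sh f ψ') (map_zero _) := by
  classical
  let z : (RMorLocal.Pull.Fr f M).obj (op c) :=
    ∑ i ∈ α.support, α i • RMorLocal.Pull.b f M (c := op c) ψ (s i)
  have hz : (RMorLocal.Pull.eps f M).app (op c) z = 0 := by
    rw [map_sum]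
    refine Eq.trans (Finset.sum_congr rfl fun i _ =>
      (((RMorLocal.Pull.eps f M).app (op c)).hom.map_smul _ _).trans
        (congrArg (_ • ·) (RMorLocal.Pull.eps_b f M _ _))) ?_
    rw [Finsupp.linearCombination_apply] at h
    exact h
  obtain ⟨S, hS, hspan⟩ := RMorLocal.Pull.exists_cover_span f M hz
  refine ⟨{ arrows := fun c' g => ∃ (e : D) (p : e ⟶ d) (ψ' : c' ⟶ f.fn.obj e)
              (n : ℕ) (A : Fin n → (ι →₀ O_D.obj.obj (op e))) (y : Fin n → O_C.obj.obj (op c')),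
              ψ' ≫ f.fn.map p = g ≫ ψ ∧ (∀ j, lc (fun i => rs M p (s i)) (A j) = 0) ∧
              α.mapRange (rr O_C g) (map_zero _) =
                ∑ j, y j • (A j).mapRange (sh f ψ') (map_zero _)
            downward_closed := ?_ }, ?_, fun _ _ hg => hg⟩
  · rintro c₁ c₂ g ⟨e, p, ψ', n, A, y, hp, hA, hy⟩ q
    refine ⟨e, p, q ≫ ψ', n, A, fun j => rr O_C q (y j),
      by rw [Category.assoc, hp, Category.assoc], hA, ?_⟩
    ext i
    have h1 := congrArg (fun a : ι →₀ _ => rr O_C q (a i)) hy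
    simp only [Finsupp.mapRange_apply, Finsupp.finsetSum_apply, Finsupp.smul_apply, smul_eq_mul,
      map_sum, map_mul, rr_rr, rr_sh] at h1 ⊢
    exact h1
  refine J.transitive hS _ fun c₁ g hg => ?_
  obtain ⟨P₀, E, hkill⟩ := Kill.killed_of_mem_span (hspan g hg)
  let p₁ : Cone.Pr f.fn c₁ := ⟨d, g ≫ ψ⟩
  refine J.transitive (Cone.coneSieve_mem K f.fn (insert p₁ P₀) (Finset.insert_nonempty _ _) E) _
    fun c₂ g₂ hg₂ => ?_
  obtain ⟨X⟩ := hg₂
  have hp₁ : p₁ ∈ insert p₁ P₀ := Finset.mem_insert_self _ _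
  let π : X.d ⟶ d := X.π p₁ hp₁
  have hψX : X.ψ ≫ f.fn.map π = (g₂ ≫ g) ≫ ψ := by rw [X.hπ p₁ hp₁, Category.assoc]
  let I := {i // i ∈ α.support}
  let N₀ := Fintype.card I
  let e₀ := (Fintype.equivFin I).symm
  let m : Fin N₀ → _root_.ModSite.sect M X.d := fun k => rs M π (s (e₀ k).1)
  let β : Fin N₀ → O_C.obj.obj (op c₂) := fun k => rr O_C (g₂ ≫ g) (α (e₀ k).1)
  have hsum : ∑ k, m k ⊗ₜ[O_D.obj.obj (op X.d)] Kill.toOb f X.ψ (β k) = 0 := by
    refine Eq.trans ?_ (hkill _ (Finset.subset_insert _ _) E (Finset.Subset.refl _) g₂ X)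
    rw [map_sum, map_sum, ← Finset.sum_coe_sort α.support]
    rw [← e₀.sum_comp (fun i : I => Kill.phi X (ModTensor.Local.res (RMorLocal.Pull.Fr f M) g.op
      (α i.1 • RMorLocal.Pull.b f M (c := op c) ψ (s i.1))))]
    refine Finset.sum_congr rfl fun k _ => ?_
    refine Eq.trans ?_ (congrArg (Kill.phi X) ((ModTensor.Local.res_smul _ g.op _ _).trans
      (congrArg (_ • ·) (RMorLocal.Pull.res_b f M g.op ψ (s (e₀ k).1))))).symm
    refine Eq.trans ?_ (Kill.phi_smul_b X (g ≫ ψ) hp₁ _ _).symm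
    simp only [m, β]
    exact congrArg (fun w => (rs M π (s (e₀ k).1) : _root_.ModSite.sect M X.d) ⊗ₜ[O_D.obj.obj (op X.d)]
      Kill.toOb f X.ψ w) (rr_rr g g₂ _).symm
  obtain ⟨L, cc, n, A, y, hy, hA⟩ := ModTensor.Local.exists_vanishesTrivially_sumElim
    (R := O_D.obj.obj (op X.d)) m (fun k => Kill.toOb f X.ψ (β k)) hsum
  obtain ⟨R, hR, hR'⟩ := exists_forall (J := K)
    (p := fun (l : Fin L) (e : D) (q : e ⟶ X.d) => ∃ γ : ι →₀ O_D.obj.obj (op e),
      rs M q (cc l) = lc (fun i => rs M (q ≫ π) (s i)) γ)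
    (fun l _ _ q q' hq => (lcSieve s π (cc l)).downward_closed hq q')
    (fun l => ⟨_, hs π (cc l), fun _ _ hq => hq⟩)
  obtain ⟨R₂, hR₂, hR₂'⟩ := RMorLocal.Basic.exists_cover_lift (J := J) K f.fn X.ψ hR
  refine J.superset_covering (fun c₃ q hq => ?_) hR₂
  obtain ⟨e, p, ψ', hp, hψ'⟩ := hR₂' q hq
  choose γ hγ using hR' p hp
  refine ⟨e, p ≫ π, ψ', n, fun j => ∑ k, Finsupp.single (e₀ k).1 (rr O_D p (A (Sum.inl k) j)) +
    ∑ l, rr O_D p (A (Sum.inr l) j) • γ l, fun j => rr O_C q (show O_C.obj.obj (op c₂) from y j),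
    ?_, fun j => ?_, ?_⟩
  · rw [Functor.map_comp, ← Category.assoc, hψ', Category.assoc, hψX]
    simp only [Category.assoc]
  · have h1 := congrArg (rs M p) (hA j)
    rw [map_zero, rs_sum, Fintype.sum_sum_type] at h1
    refine Eq.trans ?_ h1
    rw [map_add, map_sum, map_sum]
    simp only [Finsupp.linearCombination_single, map_smul, ← hγ, Sum.elim_inl, Sum.elim_inr, m,
      rs_rs]
    rfl
  · have hy' : ∀ i, rr O_C q (Sum.elim β (fun _ => 0) i) =
        ∑ j, sh f ψ' (rr O_D p (A i j)) * rr O_C q (show O_C.obj.obj (op c₂) from y j) := fun i => by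
      have h2 : (Sum.elim β (fun _ => 0) i : O_C.obj.obj (op c₂)) =
          ∑ j, sh f X.ψ (A i j) * (show O_C.obj.obj (op c₂) from y j) := by
        refine Eq.trans ?_ (hy i)
        cases i <;> rfl
      rw [h2, map_sum]
      simp only [map_mul, rr_sh, sh_rr, hψ']
    ext i
    simp only [Finsupp.mapRange_apply, Finsupp.finsetSum_apply, Finsupp.smul_apply, smul_eq_mul,
      Finsupp.add_apply, map_add, map_sum, Finsupp.single_apply, apply_ite (sh f ψ'), map_zero,
      map_mul, mul_add, Finset.sum_add_distrib, Finset.mul_sum]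
    have hz2 : ∑ j, ∑ l, rr O_C q (show O_C.obj.obj (op c₂) from y j) *
        (sh f ψ' (rr O_D p (A (Sum.inr l) j)) * sh f ψ' (γ l i)) = 0 := by
      rw [Finset.sum_comm]
      refine Finset.sum_eq_zero fun l _ => ?_
      have := hy' (Sum.inr l)
      simp only [Sum.elim_inr, map_zero] at this
      simp only [← mul_assoc, ← Finset.sum_mul]
      rw [show ∑ j, rr O_C q (show O_C.obj.obj (op c₂) from y j) * sh f ψ' (rr O_D p (A (Sum.inr l) j)) = 0
        from (Finset.sum_congr rfl fun j _ => mul_comm _ _).trans this.symm, zero_mul]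
    rw [hz2, add_zero, Finset.sum_comm]
    simp only [mul_ite, mul_zero]
    by_cases hi : i ∈ α.support
    · rw [Finset.sum_eq_single (e₀.symm ⟨i, hi⟩)]
      · simp only [Equiv.apply_symm_apply, if_true]
        have := hy' (Sum.inl (e₀.symm ⟨i, hi⟩))
        simp only [Sum.elim_inl, β, Equiv.apply_symm_apply, rr_rr, Category.assoc] at this
        simp only [Category.assoc]
        rw [this]
        exact Finset.sum_congr rfl fun j _ => mul_comm _ _
      · intro k _ hk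
        refine Finset.sum_eq_zero fun j _ => if_neg fun he => hk ?_
        rw [← e₀.symm_apply_apply k]
        exact congrArg e₀.symm (Subtype.ext he)
      · exact fun h => absurd (Finset.mem_univ _) h
    · rw [Finsupp.notMem_support_iff.1 hi, map_zero]
      refine (Finset.sum_eq_zero fun k _ => Finset.sum_eq_zero fun j _ => if_neg fun he => hi ?_).symm
      rw [← he]
      exact (e₀ k).2

/-- The pullback of relations generates the relations. -/
theorem relI_pull {c : C} {d : D} (ψ : c ⟶ f.fn.obj d) {s : ι → _root_.ModSite.sect M d}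
    {y : κ → _root_.ModSite.sect (FM O_D ι) d} (hs : GenI s) (hy : RelI s y) :
    RelI (fun i => pls f ψ (s i)) (fun k => T f ψ (y k)) := by
  classical
  refine ⟨fun k W v a ha => ?_, fun W v α hα => ?_⟩
  · obtain ⟨S, hS, hS'⟩ := exists_lc (y k)
    obtain ⟨R, hR, hR'⟩ := RMorLocal.Basic.exists_cover_lift (J := J) K f.fn (v ≫ ψ) hS
    refine eq_of_locally (M := f.pull.obj M) hR fun W' g hg => ?_
    obtain ⟨e, q, ψ', hq, hψ'⟩ := hR' g hg
    obtain ⟨b, hb⟩ := hS' q hq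
    rw [map_zero, rs_lc]
    have e1 : a.mapRange (rr O_C g) (map_zero _) = b.mapRange (sh f ψ') (map_zero _) := by
      refine lc_bas_injective ?_
      have h3 : rs (FM O_C ι) g (lc (bas O_C W) a) =
          lc (bas O_C W') (a.mapRange (rr O_C g) (map_zero _)) :=
        (rs_lc g _ a).trans (congrArg (fun t => lc t _) (funext fun i => rs_bas g i))
      rw [← h3, ← ha, rs_rs, rs_T, ← T_lc_bas f ψ' b, ← hb, T_rs, hψ', Category.assoc]
    rw [e1]
    have h2 := congrArg (pls f ψ') (hy.1 k q b hb)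
    rw [pls_lc] at h2
    refine Eq.trans ?_ (h2.trans ?_)
    · refine congrArg (fun t => lc t _) (funext fun i => ?_)
      rw [rs_rs, rs_pls, pls_rs, hψ', Category.assoc]
    · exact (congrArg _ (map_zero (RMorLocal.Pull.pm f M e))).trans (map_zero _)
  · simp only [rs_pls] at hα
    obtain ⟨S, hS, hS'⟩ := exists_rel_decomp f (v ≫ ψ) hs α hα
    refine J.transitive hS _ fun W₁ g hg => ?_
    obtain ⟨e, p, ψ', n, A, z, hp, hA, hz⟩ := hS' g hg
    obtain ⟨R, hR, hR'⟩ := exists_forall (J := K)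
      (p := fun (j : Fin n) (e' : D) (q : e' ⟶ e) => lcSieve y p (lc (bas O_D e) (A j)) q)
      (fun j _ _ q q' hq => (lcSieve y p _).downward_closed hq q')
      (fun j => ⟨_, hy.2 p (A j) (hA j), fun _ _ hq => hq⟩)
    obtain ⟨R₂, hR₂, hR₂'⟩ := RMorLocal.Basic.exists_cover_lift (J := J) K f.fn ψ' hR
    refine J.superset_covering (fun W₂ h hh => ?_) hR₂
    obtain ⟨e', q, ψ'', hq, hψ''⟩ := hR₂' h hh
    choose b hb using hR' q hq
    refine ⟨∑ j, rr O_C h (z j) • (b j).mapRange (sh f ψ'') (map_zero _), ?_⟩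
    rw [← rs_rs g h, rs_lc g, hz]
    simp only [map_sum, map_smul, rs_smul]
    refine Finset.sum_congr rfl fun j _ => congrArg (_ • ·) ?_
    rw [show lc (fun i => rs (FM O_C ι) g (bas O_C W i)) ((A j).mapRange (sh f ψ') (map_zero _)) =
      T f ψ' (lc (bas O_D e) (A j)) from (congrArg (fun t => lc t _) (funext fun i => rs_bas g i)).trans
        (T_lc_bas f ψ' (A j)).symm, rs_T, ← hψ'', ← T_rs, hb j, T_lc]
    refine congrArg (fun t => lc t _) (funext fun k => ?_)
    rw [T_rs, Functor.map_comp, ← Category.assoc, hψ'', Category.assoc, hp, rs_T]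
    simp only [Category.assoc]

/-- Pullback preserves presentations. -/
theorem pull_local {P : ∀ (_ : D), Prop} {Q : ∀ (_ : C), Prop}
    (hQ : ∀ ⦃W W' : C⦄, (W' ⟶ W) → Q W → Q W')
    (hPQ : ∀ {c : C} {d : D} (_ : c ⟶ f.fn.obj d), P d → Q c)
    (hM : ∀ X : D, ∃ S ∈ K X, ∀ ⦃W : D⦄ (g : W ⟶ X), S g → P W)
    (c : C) : ∃ S ∈ J c, ∀ ⦃W : C⦄ (g : W ⟶ c), S g → Q W := by
  obtain ⟨S, hS, hS'⟩ := RMorLocal.Basic.exists_cover_obj (J := J) K f.fn c
  refine Ops.exists_trans hQ hS fun W g hg => ?_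
  obtain ⟨d, ⟨ψ⟩⟩ := hS' g hg
  obtain ⟨R, hR, hR'⟩ := hM d
  obtain ⟨R₂, hR₂, hR₂'⟩ := RMorLocal.Basic.exists_cover_lift (J := J) K f.fn ψ hR
  refine ⟨R₂, hR₂, fun W' h hh => ?_⟩
  obtain ⟨d', q, ψ', hq, -⟩ := hR₂' h hh
  exact hPQ ψ' (hR' q hq)

theorem isQuasicoherent_pull (hM : SheafOfModules.IsQuasicoherent (R := _root_.ModSite.ringSh O_D) M) :
    SheafOfModules.IsQuasicoherent (R := _root_.ModSite.ringSh O_C) (f.pull.obj M) :=
  isQuasicoherent_iff.2 (pull_local f (fun _ _ u h => PresAt.res h u)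
    (fun ψ ⟨ι, κ, s, y, hs, hy⟩ => ⟨ι, κ, _, _, genI_pull f ψ hs, relI_pull f ψ hs hy⟩)
    (isQuasicoherent_iff.1 hM))

theorem isFinitePresentation_pull (hM : SheafOfModules.IsFinitePresentation (R := _root_.ModSite.ringSh O_D) M) :
    SheafOfModules.IsFinitePresentation (R := _root_.ModSite.ringSh O_C) (f.pull.obj M) :=
  Free.isFinitePresentation_iff.2 (pull_local f (fun _ _ u h => FinPresAt.res h u)
    (fun ψ ⟨ι, κ, hι, hκ, s, y, hs, hy⟩ =>
      ⟨ι, κ, hι, hκ, _, _, genI_pull f ψ hs, relI_pull f ψ hs hy⟩)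
    (Free.isFinitePresentation_iff.1 hM))

theorem isLocallyFree_pull (hM : SheafOfModules.IsLocallyFree (R := _root_.ModSite.ringSh O_D) M) :
    SheafOfModules.IsLocallyFree (R := _root_.ModSite.ringSh O_C) (f.pull.obj M) := by
  refine isLocallyFree_iff.2 (pull_local f (fun _ _ u h => LFAt.res h u)
    (fun {c d} ψ ⟨ι, s, hs, hy⟩ => ⟨ι, _, genI_pull f ψ hs, ?_⟩) (isLocallyFree_iff.1 hM))
  have := relI_pull f ψ hs hy
  convert this using 2
  rename_i k
  exact k.elim

end Groth.Agent.Lib.ModSiteLoc.PullFree
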