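import Groth.Agent.Lib.FlatCrit.Factor
import Groth.Agent.Lib.Modules.ToSheaf
import Mathlib.Algebra.Homology.ShortComplex.Ab
import Mathlib.Algebra.Homology.ShortComplex.ExactFunctor
import Mathlib.LinearAlgebra.Matrix.NonsingularInverse

/-!
# Sheaves of modules on a small ringed site, element-wise

* `Gen s`: the sections `s` generate `M` locally over `U`;
* `Rels s r`: the rows of `r` locally generate the relations between the sections `s`;
* local surjectivity, gluing and finite covering tools.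
-/

set_option autoImplicit false
set_option linter.style.haveILetI false

universe u

open CategoryTheory Limits Opposite

namespace Groth.Agent.Lib.ModSiteLoc.Basic

open Groth.Agent.Lib.ModTensor.Local

variable {C : Type u} [SmallCategory C] {J : GrothendieckTopology C} {O : Sheaf J CommRingCat.{u}}
  {M N P : _root_.ModSite.Mod O}

/-- The module structure on sections, over the commutative ring of scalars. -/
noncomputable instance moduleSect (M : _root_.ModSite.Mod O) (V : Cᵒᵖ) :
    Module (O.obj.obj V) (M.val.obj V) :=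
  (M.val.obj V).isModule

/-- Restriction of sections. -/
noncomputable abbrev rs (M : _root_.ModSite.Mod O) {U W : C} (v : W ⟶ U) :
    _root_.ModSite.sect M U →+ _root_.ModSite.sect M W :=
  res (R := O.obj) M.val v.op

/-- Restriction of scalars. -/
noncomputable abbrev rr (O : Sheaf J CommRingCat.{u}) {U W : C} (v : W ⟶ U) :
    O.obj.obj (op U) →+* O.obj.obj (op W) :=
  (O.obj.map v.op).hom

lemma rr_rr {U W W' : C} (v : W ⟶ U) (g : W' ⟶ W) (a : O.obj.obj (op U)) :
    rr O g (rr O v a) = rr O (g ≫ v) a :=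
  (ConcreteCategory.congr_hom (O.obj.map_comp v.op g.op) a).symm

lemma rs_rs {U W W' : C} (v : W ⟶ U) (g : W' ⟶ W) (x : _root_.ModSite.sect M U) :
    rs M g (rs M v x) = rs M (g ≫ v) x :=
  (res_comp (R := O.obj) M.val v.op g.op x).symm

lemma rs_id {U : C} (x : _root_.ModSite.sect M U) : rs M (𝟙 U) x = x :=
  ConcreteCategory.congr_hom ((_root_.ModSite.toAb M).obj.map_id (op U)) x

lemma rs_smul {U W : C} (v : W ⟶ U) (a : O.obj.obj (op U)) (x : _root_.ModSite.sect M U) :
    rs M v (a • x) = rr O v a • rs M v x :=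
  res_smul (R := O.obj) M.val v.op a x

lemma rs_sum {U W : C} (v : W ⟶ U) {ι : Type*} [Fintype ι] (a : ι → O.obj.obj (op U))
    (x : ι → _root_.ModSite.sect M U) :
    rs M v (∑ i, a i • x i) = ∑ i, rr O v (a i) • rs M v (x i) :=
  (map_sum (rs M v) _ _).trans (Finset.sum_congr rfl fun _ _ => rs_smul _ _ _)

/-- The value of a map at a section. -/
noncomputable abbrev ap (φ : M ⟶ N) {U : C} :
    _root_.ModSite.sect M U →ₗ[O.obj.obj (op U)] _root_.ModSite.sect N U :=
  (φ.val.app (op U)).hom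

lemma ap_rs (φ : M ⟶ N) {U W : C} (v : W ⟶ U) (x : _root_.ModSite.sect M U) :
    ap φ (rs M v x) = rs N v (ap φ x) :=
  res_app (R := O.obj) φ.val v.op x

lemma ap_sum (φ : M ⟶ N) {U : C} {ι : Type*} [Fintype ι] (a : ι → O.obj.obj (op U))
    (x : ι → _root_.ModSite.sect M U) : ap φ (∑ i, a i • x i) = ∑ i, a i • ap φ (x i) := by
  rw [map_sum]
  exact Finset.sum_congr rfl fun _ _ => map_smul _ _ _

/-- Sections which agree locally are equal. -/
theorem eq_of_locally {U : C} {S : Sieve U} (hS : S ∈ J U) {x y : _root_.ModSite.sect M U}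
    (h : ∀ ⦃W : C⦄ (g : W ⟶ U), S g → rs M g x = rs M g y) : x = y := by
  have hsh : Presheaf.IsSheaf J ((_root_.ModSite.toAb M).obj ⋙ forget AddCommGrpCat.{u}) :=
    Presheaf.isSheaf_comp_of_isSheaf J _ _ (_root_.ModSite.toAb M).property
  rw [isSheaf_iff_isSheaf_of_type] at hsh
  exact ((hsh S hS).isSeparatedFor).ext fun W g hg => h g hg

/-- Scalars which agree locally are equal. -/
theorem eq_of_locally_ring {U : C} {S : Sieve U} (hS : S ∈ J U) {x y : O.obj.obj (op U)}
    (h : ∀ ⦃W : C⦄ (g : W ⟶ U), S g → rr O g x = rr O g y) : x = y :=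
  eq_of_locally (M := _root_.ModSite.unit O) hS fun _ g hg => h g hg

/-- Finitely many local properties hold on a common covering sieve. -/
theorem exists_forall {U : C} {ι : Type*} [Finite ι] {p : ι → ∀ ⦃W : C⦄, (W ⟶ U) → Prop}
    (hp : ∀ i ⦃W W' : C⦄ (g : W ⟶ U) (h : W' ⟶ W), p i g → p i (h ≫ g))
    (h : ∀ i, ∃ S ∈ J U, ∀ ⦃W : C⦄ (g : W ⟶ U), S g → p i g) :
    ∃ S ∈ J U, ∀ ⦃W : C⦄ (g : W ⟶ U), S g → ∀ i, p i g := by
  let S : Sieve U :=
    { arrows := fun W g => ∀ i, p i g
      downward_closed := fun hg h i => hp i _ h (hg i) }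
  classical
  have := Fintype.ofFinite ι
  choose T hT hT' using h
  refine ⟨S, J.superset_covering (S := Finset.univ.inf T) ?_ ?_, fun W g hg => hg⟩
  · intro W g hg i
    exact hT' i g (Finset.inf_le (f := T) (Finset.mem_univ i) _ hg)
  · induction (Finset.univ : Finset ι) using Finset.induction with
    | empty => simp
    | insert i s _ ih =>
      rw [Finset.inf_insert]
      exact J.intersection_covering (hT i) ih

/-- An epimorphism is locally surjective on finitely many sections. -/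
theorem exists_lift (φ : M ⟶ N) [Epi φ] {U : C} {ι : Type*} [Finite ι]
    (t : ι → _root_.ModSite.sect N U) :
    ∃ S ∈ J U, ∀ ⦃W : C⦄ (g : W ⟶ U), S g →
      ∃ x : ι → _root_.ModSite.sect M W, ∀ i, ap φ (x i) = rs N g (t i) := by
  haveI : PresheafOfModules.IsLocallySurjective J
      ((ModTensor.Monoidal.G.{u, u, u} O).map φ) :=
    (Sheaf.isLocallySurjective_iff_epi'
      (φ := (SheafOfModules.toSheaf (_root_.ModSite.ringSh O)).map φ)).2 inferInstance
  exact exists_cover_lift J (R := O.obj) ((ModTensor.Monoidal.G.{u, u, u} O).map φ) (X := op U) t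

/-- A map which is locally surjective on sections is an epimorphism. -/
theorem epi_of_exists_lift (φ : M ⟶ N)
    (h : ∀ ⦃U : C⦄ (t : _root_.ModSite.sect N U), ∃ S ∈ J U, ∀ ⦃W : C⦄ (g : W ⟶ U), S g →
      ∃ x, ap φ x = rs N g t) : Epi φ := by
  haveI : Sheaf.IsLocallySurjective ((SheafOfModules.toSheaf (_root_.ModSite.ringSh O)).map φ) :=
    ⟨fun {U} t => by
      obtain ⟨S, hS, hS'⟩ := h t
      exact J.superset_covering (fun W g hg => hS' g hg) hS⟩
  haveI : Epi ((SheafOfModules.toSheaf (_root_.ModSite.ringSh O)).map φ) :=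
    (Sheaf.isLocallySurjective_iff_epi'
      (φ := (SheafOfModules.toSheaf (_root_.ModSite.ringSh O)).map φ)).1 inferInstance
  exact (SheafOfModules.toSheaf (_root_.ModSite.ringSh O)).epi_of_epi_map inferInstance

/-- The sections of a module over an object, as a functor. -/
noncomputable def ev (U : C) : _root_.ModSite.Mod O ⥤ AddCommGrpCat.{u} :=
  SheafOfModules.toSheaf (_root_.ModSite.ringSh O) ⋙
    (sheafSections J AddCommGrpCat.{u}).obj (op U)

instance (U : C) : (ev (O := O) U).Additive := ⟨fun {_ _ _ _} => rfl⟩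

/-- A map is a monomorphism iff it is injective on sections. -/
theorem mono_of_injective (φ : M ⟶ N)
    (h : ∀ ⦃U : C⦄ (x : _root_.ModSite.sect M U), ap φ x = 0 → x = 0) : Mono φ :=
  Preadditive.mono_of_cancel_zero _ fun {Z} k hk => by
    apply SheafOfModules.hom_ext
    apply PresheafOfModules.Hom.ext
    funext V
    refine ModuleCat.hom_ext (LinearMap.ext fun z => ?_)
    exact h _ (congrArg (fun q : Z ⟶ N => q.val.app V z) hk)

instance mono_ev_map (φ : M ⟶ N) [Mono φ] (U : C) : Mono ((ev (O := O) U).map φ) := by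
  haveI : PreservesFiniteLimits ((sheafSections J AddCommGrpCat.{u}).obj (op U)) := by
    haveI : PreservesFiniteLimits (sheafToPresheaf J AddCommGrpCat.{u}) :=
      inferInstance
    exact inferInstanceAs (PreservesFiniteLimits (sheafToPresheaf J AddCommGrpCat.{u} ⋙
      (evaluation _ _).obj (op U)))
  haveI : Mono ((SheafOfModules.toSheaf (_root_.ModSite.ringSh O)).map φ) := inferInstance
  exact inferInstanceAs (Mono (((sheafSections J AddCommGrpCat.{u}).obj (op U)).map
    ((SheafOfModules.toSheaf (_root_.ModSite.ringSh O)).map φ)))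

theorem injective_ap (φ : M ⟶ N) [Mono φ] (U : C) :
    Function.Injective (ap φ (U := U)) :=
  (AddCommGrpCat.mono_iff_injective ((ev (O := O) U).map φ)).1 inferInstance

/-- Sections of a kernel are the sections killed by the map. -/
theorem exists_kernel_section (φ : M ⟶ N) {U : C} (x : _root_.ModSite.sect M U)
    (hx : ap φ x = 0) : ∃ z, ap (kernel.ι φ) z = x := by
  haveI : PreservesFiniteLimits ((sheafSections J AddCommGrpCat.{u}).obj (op U)) :=
    inferInstanceAs (PreservesFiniteLimits (sheafToPresheaf J AddCommGrpCat.{u} ⋙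
      (evaluation _ _).obj (op U)))
  haveI : PreservesFiniteLimits (ev (O := O) U) := comp_preservesFiniteLimits _ _
  have hex : ((ShortComplex.mk (kernel.ι φ) φ (kernel.condition _)).map (ev U)).Exact :=
    (ShortComplex.exact_of_f_is_kernel _ (kernelIsKernel φ)).map_of_mono_of_preservesKernel _
      inferInstance inferInstance
  exact (ShortComplex.ab_exact_iff _).1 hex x hx

/-- Sections killed by the second map of an exact sequence are locally images. -/
theorem exists_lift_of_exact (f : M ⟶ N) (g : N ⟶ P) (w : f ≫ g = 0)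
    (hfg : (ShortComplex.mk f g w).Exact) {U : C} (x : _root_.ModSite.sect N U)
    (hx : ap g x = 0) :
    ∃ S ∈ J U, ∀ ⦃W : C⦄ (v : W ⟶ U), S v → ∃ z, ap f z = rs N v x := by
  obtain ⟨z, hz⟩ := exists_kernel_section g x hx
  let q := kernel.lift g f w
  haveI : Epi q := (ShortComplex.mk f g w).exact_iff_epi_kernel_lift.1 hfg
  obtain ⟨S, hS, hS'⟩ := exists_lift q (fun _ : Unit => z)
  refine ⟨S, hS, fun W v hv => ?_⟩
  obtain ⟨y, hy⟩ := hS' v hv
  refine ⟨y (), ?_⟩
  calc ap f (y ()) = ap (kernel.ι g) (ap q (y ())) :=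
        congrArg (fun k : M ⟶ N => ap k (y ())) (kernel.lift_ι g f w).symm
    _ = _ := by rw [hy, ap_rs, hz]

/-- The sections `s` generate `M` locally over `U`. -/
def Gen (M : _root_.ModSite.Mod O) {U : C} {ι : Type*} [Fintype ι]
    (s : ι → _root_.ModSite.sect M U) : Prop :=
  ∀ ⦃W : C⦄ (v : W ⟶ U) (t : _root_.ModSite.sect M W), ∃ S ∈ J W, ∀ ⦃W' : C⦄ (g : W' ⟶ W),
    S g → ∃ a : ι → O.obj.obj (op W'), rs M g t = ∑ i, a i • rs M (g ≫ v) (s i)

/-- The rows of `r` are relations between the sections `s`, and generate them locally. -/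
def Rels (M : _root_.ModSite.Mod O) {U : C} {ι κ : Type*} [Fintype ι] [Fintype κ]
    (s : ι → _root_.ModSite.sect M U) (r : κ → ι → O.obj.obj (op U)) : Prop :=
  (∀ k, ∑ i, r k i • s i = 0) ∧
  ∀ ⦃W : C⦄ (v : W ⟶ U) (a : ι → O.obj.obj (op W)), ∑ i, a i • rs M v (s i) = 0 →
    ∃ S ∈ J W, ∀ ⦃W' : C⦄ (g : W' ⟶ W), S g → ∃ b : κ → O.obj.obj (op W'),
      ∀ i, rr O g (a i) = ∑ k, b k * rr O (g ≫ v) (r k i)

variable {U V : C} {ι κ : Type*} [Fintype ι] [Fintype κ] {s : ι → _root_.ModSite.sect M U}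
  {r : κ → ι → O.obj.obj (op U)}

theorem Gen.res (h : Gen M s) (u : V ⟶ U) : Gen M fun i => rs M u (s i) := by
  intro W v t
  obtain ⟨S, hS, hS'⟩ := h (v ≫ u) t
  refine ⟨S, hS, fun W' g hg => ?_⟩
  obtain ⟨a, ha⟩ := hS' g hg
  exact ⟨a, ha.trans (Finset.sum_congr rfl fun i _ => by rw [rs_rs, Category.assoc])⟩

theorem Rels.res (h : Rels M s r) (u : V ⟶ U) :
    Rels M (fun i => rs M u (s i)) fun k i => rr O u (r k i) := by
  refine ⟨fun k => ?_, fun W v a ha => ?_⟩
  · rw [← rs_sum, h.1 k, map_zero]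
  · simp only [rs_rs] at ha
    obtain ⟨S, hS, hS'⟩ := h.2 (v ≫ u) a ha
    refine ⟨S, hS, fun W' g hg => ?_⟩
    obtain ⟨b, hb⟩ := hS' g hg
    exact ⟨b, fun i => (hb i).trans (Finset.sum_congr rfl fun k _ => by
      rw [rr_rr, Category.assoc])⟩

theorem Gen.reindex (h : Gen M s) {ι' : Type*} [Fintype ι'] (e : ι' ≃ ι) :
    Gen M fun j => s (e j) := by
  intro W v t
  obtain ⟨S, hS, hS'⟩ := h v t
  refine ⟨S, hS, fun W' g hg => ?_⟩
  obtain ⟨a, ha⟩ := hS' g hg
  exact ⟨fun j => a (e j), ha.trans (e.sum_comp fun i => a i • rs M (g ≫ v) (s i)).symm⟩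

theorem Rels.reindex (h : Rels M s r) {ι' κ' : Type*} [Fintype ι'] [Fintype κ'] (e : ι' ≃ ι)
    (f : κ' ≃ κ) : Rels M (fun j => s (e j)) fun l j => r (f l) (e j) := by
  refine ⟨fun l => (e.sum_comp fun i => r (f l) i • s i).trans (h.1 (f l)), fun W v a ha => ?_⟩
  obtain ⟨S, hS, hS'⟩ := h.2 v (fun i => a (e.symm i)) (by
    rw [← e.sum_comp]
    simpa using ha)
  refine ⟨S, hS, fun W' g hg => ?_⟩
  obtain ⟨b, hb⟩ := hS' g hg
  refine ⟨fun l => b (f l), fun j => ?_⟩
  have := hb (e j)
  rw [Equiv.symm_apply_apply] at this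
  exact this.trans (f.sum_comp fun k => b k * rr O (g ≫ v) (r k (e j))).symm

/-- An epimorphism maps generators to generators. -/
theorem Gen.map (h : Gen M s) (φ : M ⟶ N) [Epi φ] : Gen N fun i => ap φ (s i) := by
  intro W v t
  obtain ⟨S, hS, hS'⟩ := exists_lift φ (fun _ : Unit => t)
  let Sv : Sieve W :=
    { arrows := fun W' g => ∃ a : ι → O.obj.obj (op W'),
        rs N g t = ∑ i, a i • rs N (g ≫ v) (ap φ (s i))
      downward_closed := fun {W' W''} g ⟨a, ha⟩ h => ⟨fun i => rr O h (a i), by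
        rw [← rs_rs g h t, ha, rs_sum]
        simp only [rs_rs, Category.assoc]⟩ }
  refine ⟨Sv, J.transitive hS Sv fun W' g hg => ?_, fun W' g hg => hg⟩
  obtain ⟨x, hx⟩ := hS' g hg
  obtain ⟨T, hT, hT'⟩ := h (g ≫ v) (x ())
  refine J.superset_covering (fun W'' k hk => ?_) hT
  obtain ⟨a, ha⟩ := hT' k hk
  refine ⟨a, ?_⟩
  rw [← rs_rs g k t, ← hx, ← ap_rs, ha, ap_sum]
  simp only [ap_rs, Category.assoc]

/-- `M` is generated by finitely many sections over `U`. -/
def FTAt (M : _root_.ModSite.Mod O) (U : C) : Prop :=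
  ∃ (n : ℕ) (s : Fin n → _root_.ModSite.sect M U), Gen M s

/-- `M` has a finite presentation over `U`. -/
def FPAt (M : _root_.ModSite.Mod O) (U : C) : Prop :=
  ∃ (n m : ℕ) (s : Fin n → _root_.ModSite.sect M U) (r : Fin m → Fin n → O.obj.obj (op U)),
    Gen M s ∧ Rels M s r

theorem FTAt.mk' (h : Gen M s) : FTAt M U :=
  ⟨_, _, h.reindex (Fintype.equivFin ι).symm⟩

theorem FPAt.mk' (h : Gen M s) (h' : Rels M s r) : FPAt M U :=
  ⟨_, _, _, _, h.reindex (Fintype.equivFin ι).symm,
    h'.reindex (Fintype.equivFin ι).symm (Fintype.equivFin κ).symm⟩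

theorem FTAt.res (h : FTAt M U) (u : V ⟶ U) : FTAt M V :=
  h.elim fun n h' => h'.elim fun _ hs => ⟨n, _, hs.res u⟩

theorem FPAt.res (h : FPAt M U) (u : V ⟶ U) : FPAt M V := by
  obtain ⟨n, m, s, r, hs, hr⟩ := h
  exact ⟨n, m, _, _, hs.res u, hr.res u⟩

theorem FPAt.ftAt (h : FPAt M U) : FTAt M U := by
  obtain ⟨n, m, s, r, hs, hr⟩ := h
  exact ⟨n, s, hs⟩

/-- The arrows to `U` over whose source `p` holds. -/
def locus (p : C → Prop) (hp : ∀ ⦃W W' : C⦄, (W' ⟶ W) → p W → p W') (U : C) : Sieve U where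
  arrows W _ := p W
  downward_closed hg h := hp h hg

end Groth.Agent.Lib.ModSiteLoc.Basic
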