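import Groth.Agent.Lib.ModSiteLoc.Ops
import Groth.Agent.Lib.SiteStalk.Germ
import Mathlib.Topology.Sheaves.Points
import Mathlib.Topology.Sheaves.Sheaf

/-!
# Modules on a ringed space: generators near a point
-/

set_option autoImplicit false
set_option linter.style.haveILetI false

universe u

open CategoryTheory Limits Opposite TopologicalSpace

namespace Groth.Agent.Lib.ModSiteLoc.Top

open Groth.Agent.Lib.ModSiteLoc.Basic

variable {X : TopCat.{u}} {O : CategoryTheory.Sheaf (Opens.grothendieckTopology X) CommRingCat.{u}}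

variable {M N : _root_.ModSite.Mod O}

/-- A covering sieve gives a neighbourhood of every point. -/
lemma exists_nhd {U : Opens X} {S : Sieve U} (hS : S ∈ Opens.grothendieckTopology X U) {x : X}
    (hx : x ∈ U) : ∃ (V : Opens X) (h : V ≤ U), x ∈ V ∧ S (homOfLE h) := by
  obtain ⟨V, f, hf, hxV⟩ := hS x hx
  exact ⟨V, f.le, hxV, hf⟩

/-- A property stable under shrinking which holds near every point holds on a cover. -/
lemma exists_cover {p : Opens X → Prop} (hp : ∀ ⦃W W' : Opens X⦄, (W' ⟶ W) → p W → p W')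
    (h : ∀ x : X, ∃ U : Opens X, x ∈ U ∧ p U) (V : Opens X) :
    ∃ S ∈ Opens.grothendieckTopology X V, ∀ ⦃W : Opens X⦄ (g : W ⟶ V), S g → p W := by
  refine ⟨locus p hp V, fun x hxV => ?_, fun W g hg => hg⟩
  obtain ⟨U, hxU, hU⟩ := h x
  exact ⟨V ⊓ U, homOfLE inf_le_left, hp (homOfLE inf_le_right) hU, ⟨hxV, hxU⟩⟩

/-- Every point has a neighbourhood on which a property of a cover holds. -/
lemma exists_point {p : Opens X → Prop}
    (h : ∀ V : Opens X, ∃ S ∈ Opens.grothendieckTopology X V, ∀ ⦃W : Opens X⦄ (g : W ⟶ V), S g → p W)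
    (x : X) : ∃ U : Opens X, x ∈ U ∧ p U := by
  obtain ⟨S, hS, hS'⟩ := h ⊤
  obtain ⟨V, hV, hxV, hSV⟩ := exists_nhd hS (Opens.mem_top x)
  exact ⟨V, hxV, hS' _ hSV⟩

/-- `r` independent generators over `W`. -/
def FreeAt (M : _root_.ModSite.Mod O) (r : ℕ) (W : Opens X) : Prop :=
  ∃ s : Fin r → _root_.ModSite.sect M W, Gen M s ∧
    ∀ ⦃W' : Opens X⦄ (v : W' ⟶ W) (a : Fin r → O.obj.obj (op W')),
      ∑ i, a i • rs M v (s i) = 0 → a = 0

theorem FreeAt.res {r : ℕ} {W W' : Opens X} (h : FreeAt M r W) (u : W' ⟶ W) : FreeAt M r W' := by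
  obtain ⟨s, hs, hi⟩ := h
  refine ⟨_, hs.res u, fun V v a ha => hi (v ≫ u) a ?_⟩
  simpa only [rs_rs] using ha

theorem freeAt_of_iso {r : ℕ} {U : Opens X}
    (e : (_root_.ModSite.restr O U).obj M ≅ SheafOfModules.free (ULift.{u} (Fin r))) :
    FreeAt M r U := by
  obtain ⟨hs, hi⟩ := Bridge.gen_rels_of_isIso e
  refine ⟨_, hs.reindex Equiv.ulift.{u, 0}.symm, fun W w a ha => ?_⟩
  have := hi w (fun i => a i.down) (by
    rw [← Equiv.ulift.{u, 0}.symm.sum_comp]
    exact ha)
  exact funext fun i => congrFun this ⟨i⟩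

theorem nonempty_iso_of_freeAt {r : ℕ} {U : Opens X} (h : FreeAt M r U) :
    Nonempty ((_root_.ModSite.restr O U).obj M ≅ SheafOfModules.free (ULift.{u} (Fin r))) := by
  obtain ⟨s, hs, hi⟩ := h
  refine Bridge.nonempty_iso_free (hs.reindex Equiv.ulift.{u, 0}) fun W w a ha => ?_
  have := hi w (fun i => a ⟨i⟩) ((Equiv.ulift.{u, 0}.symm.sum_comp
    fun i => a i • rs M w (s i.down)).trans ha)
  exact funext fun i => congrFun this i.down

/-- A surjection between locally free modules of the same rank is an isomorphism. -/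
theorem isIso_of_epi_of_free (φ : M ⟶ N) [Epi φ] (r : ℕ)
    (hM : ∀ x : X, ∃ U : Opens X, x ∈ U ∧
      Nonempty ((_root_.ModSite.restr O U).obj M ≅ SheafOfModules.free (ULift.{u} (Fin r))))
    (hN : ∀ x : X, ∃ U : Opens X, x ∈ U ∧
      Nonempty ((_root_.ModSite.restr O U).obj N ≅ SheafOfModules.free (ULift.{u} (Fin r)))) :
    IsIso φ := by
  have key : ∀ {P : _root_.ModSite.Mod O}, (∀ x : X, ∃ U : Opens X, x ∈ U ∧
      Nonempty ((_root_.ModSite.restr O U).obj P ≅ SheafOfModules.free (ULift.{u} (Fin r)))) →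
      ∀ V : Opens X, ∃ S ∈ Opens.grothendieckTopology X V,
        ∀ ⦃W : Opens X⦄ (g : W ⟶ V), S g → FreeAt P r W := fun hP => exists_cover
    (fun _ _ v h => FreeAt.res h v) fun x => by
      obtain ⟨U, hxU, ⟨e⟩⟩ := hP x
      exact ⟨U, hxU, freeAt_of_iso e⟩
  haveI : Mono φ := Ops.mono_of_epi_of_free φ r
    (fun V => by
      obtain ⟨S, hS, hS'⟩ := key hM V
      exact ⟨S, hS, fun W g hg => ⟨_, (hS' g hg).choose_spec.1⟩⟩)
    (fun V => key hN V)
  exact isIso_of_mono_of_epi φ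

/-- The point of the site of opens given by `x`. -/
noncomputable abbrev pt (x : X) : GrothendieckTopology.Point.{u} (Opens.grothendieckTopology X) :=
  Opens.pointGrothendieckTopology x

/-- The germ of a section at a point. -/
noncomputable abbrev gm (M : _root_.ModSite.Mod O) {U : Opens X} {x : X} (hx : x ∈ U) :
    _root_.ModSite.sect M U →+ _root_.ModSite.stalkAb (pt x) M :=
  SiteStalk.Germ.germHom (pt x) M U ⟨⟨hx⟩⟩

/-- The germ of a function at a point. -/
noncomputable abbrev gr (O : CategoryTheory.Sheaf (Opens.grothendieckTopology X) CommRingCat.{u}) {U : Opens X} {x : X} (hx : x ∈ U) :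
    O.obj.obj (op U) →+* _root_.ModSite.stalkRing (pt x) O :=
  SiteStalk.Germ.germRingHom (pt x) U ⟨⟨hx⟩⟩

variable {x : X} {U V : Opens X}

lemma gm_rs (v : V ⟶ U) (hV : x ∈ V) (hU : x ∈ U) (s : _root_.ModSite.sect M U) :
    gm M hV (rs M v s) = gm M hU s :=
  SiteStalk.Germ.germHom_res (pt x) M v ⟨⟨hV⟩⟩ s

lemma gr_rr (v : V ⟶ U) (hV : x ∈ V) (hU : x ∈ U) (a : O.obj.obj (op U)) :
    gr O hV (rr O v a) = gr O hU a :=
  SiteStalk.Germ.germRingHom_res (pt x) v ⟨⟨hV⟩⟩ a

lemma gm_smul (hU : x ∈ U) (a : O.obj.obj (op U)) (s : _root_.ModSite.sect M U) :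
    gm M hU (a • s) = gr O hU a • gm M hU s :=
  SiteStalk.Germ.germHom_smul (pt x) M _ a s

lemma gm_sum (hU : x ∈ U) {ι : Type*} [Fintype ι] (a : ι → O.obj.obj (op U))
    (s : ι → _root_.ModSite.sect M U) :
    gm M hU (∑ i, a i • s i) = ∑ i, gr O hU (a i) • gm M hU (s i) :=
  (map_sum (gm M hU) _ _).trans (Finset.sum_congr rfl fun _ _ => gm_smul hU _ _)

lemma gm_ap (φ : M ⟶ N) (hU : x ∈ U) (s : _root_.ModSite.sect M U) :
    (_root_.ModSite.stalkMap (pt x) φ).hom (gm M hU s) = gm N hU (ap φ s) :=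
  SiteStalk.Germ.stalkMap_germHom (pt x) M φ _ s

/-- Finitely many elements of the stalk come from sections over a given neighbourhood, shrunk. -/
lemma exists_gm (hU : x ∈ U) {ι : Type*} [Finite ι] (m : ι → _root_.ModSite.stalkAb (pt x) M) :
    ∃ (V : Opens X) (_ : V ≤ U) (hV : x ∈ V) (s : ι → _root_.ModSite.sect M V),
      ∀ i, gm M hV (s i) = m i := by
  classical
  have := Fintype.ofFinite ι
  choose W w s hs using fun i => SiteStalk.Germ.exists_germ (pt x) M (m i)
  obtain ⟨V, v, g, hg⟩ := SiteStalk.Germ.exists_common (pt x) (fun o : Option ι => o.elim U W)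
    (fun o => Option.rec (motive := fun o => (pt x).fiber.obj (o.elim U W)) ⟨⟨hU⟩⟩ w o)
  refine ⟨V, (g none).le, v.down.down, fun i => rs M (g (some i)) (s i), fun i => ?_⟩
  exact (gm_rs (g (some i)) v.down.down (w i).down.down (s i)).trans (hs i)

/-- Finitely many elements of the stalk of the structure sheaf come from functions. -/
lemma exists_gr (hU : x ∈ U) {ι : Type*} [Finite ι] (m : ι → _root_.ModSite.stalkRing (pt x) O) :
    ∃ (V : Opens X) (_ : V ≤ U) (hV : x ∈ V) (s : ι → O.obj.obj (op V)),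
      ∀ i, gr O hV (s i) = m i := by
  classical
  have := Fintype.ofFinite ι
  choose W w s hs using fun i => SiteStalk.Germ.exists_germRing (O := O) (pt x) (m i)
  obtain ⟨V, v, g, hg⟩ := SiteStalk.Germ.exists_common (pt x) (fun o : Option ι => o.elim U W)
    (fun o => Option.rec (motive := fun o => (pt x).fiber.obj (o.elim U W)) ⟨⟨hU⟩⟩ w o)
  refine ⟨V, (g none).le, v.down.down, fun i => rr O (g (some i)) (s i), fun i => ?_⟩
  exact (gr_rr (g (some i)) v.down.down (w i).down.down (s i)).trans (hs i)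

/-- Finitely many pairs of sections with equal germs agree near the point. -/
lemma exists_rs_eq (hU : x ∈ U) {ι : Type*} [Finite ι] (s t : ι → _root_.ModSite.sect M U)
    (h : ∀ i, gm M hU (s i) = gm M hU (t i)) :
    ∃ (V : Opens X) (hVU : V ≤ U), x ∈ V ∧
      ∀ i, rs M (homOfLE hVU) (s i) = rs M (homOfLE hVU) (t i) := by
  obtain ⟨V, g, hg, v, -⟩ := SiteStalk.Germ.hit_biInf (pt x) (X := U) ⟨⟨hU⟩⟩
    (fun i => SiteStalk.Germ.nullSieve M (s i - t i))
    (fun i => SiteStalk.Germ.hit_of_germ_eq_zero (pt x) M _ _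
      ((map_sub (gm M hU) _ _).trans (sub_eq_zero.2 (h i))))
  exact ⟨V, g.le, v.down.down, fun i => sub_eq_zero.1 ((map_sub (rs M g) _ _).symm.trans (hg i))⟩

/-- Finitely many pairs of functions with equal germs agree near the point. -/
lemma exists_rr_eq (hU : x ∈ U) {ι : Type*} [Finite ι] (s t : ι → O.obj.obj (op U))
    (h : ∀ i, gr O hU (s i) = gr O hU (t i)) :
    ∃ (V : Opens X) (hVU : V ≤ U), x ∈ V ∧
      ∀ i, rr O (homOfLE hVU) (s i) = rr O (homOfLE hVU) (t i) := by
  obtain ⟨V, g, hg, v, -⟩ := SiteStalk.Germ.hit_biInf (pt x) (X := U) ⟨⟨hU⟩⟩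
    (fun i => SiteStalk.Germ.nullSieveRing (O := O) (s i - t i))
    (fun i => SiteStalk.Germ.hit_of_germRing_eq_zero (pt x) _ _
      ((map_sub (gr O hU) _ _).trans (sub_eq_zero.2 (h i))))
  exact ⟨V, g.le, v.down.down, fun i => sub_eq_zero.1 ((map_sub (rr O g) _ _).symm.trans (hg i))⟩

/-- Over a neighbourhood, given sections are combinations of sections whose germs span theirs. -/
theorem exists_combination {ι κ : Type*} [Finite κ] [Fintype ι] (hU : x ∈ U)
    (t : ι → _root_.ModSite.sect M U) (s : κ → _root_.ModSite.sect M U)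
    (h : ∀ k, gm M hU (s k) ∈ Submodule.span (_root_.ModSite.stalkRing (pt x) O)
      (Set.range fun i => gm M hU (t i))) :
    ∃ (V : Opens X) (hVU : V ≤ U) (A : κ → ι → O.obj.obj (op V)), x ∈ V ∧
      ∀ k, rs M (homOfLE hVU) (s k) = ∑ i, A k i • rs M (homOfLE hVU) (t i) := by
  choose c hc using fun k => (Submodule.mem_span_range_iff_exists_fun _).1 (h k)
  obtain ⟨V, hVU, hV, A, hA⟩ := exists_gr hU fun p : κ × ι => c p.1 p.2
  obtain ⟨W, hWV, hW, he⟩ := exists_rs_eq hV (fun k => rs M (homOfLE hVU) (s k))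
    (fun k => ∑ i, A (k, i) • rs M (homOfLE hVU) (t i)) fun k => by
      rw [gm_rs _ hV hU, gm_sum, ← hc k]
      exact Finset.sum_congr rfl fun i _ => by rw [hA (k, i), gm_rs _ hV hU]
  refine ⟨W, hWV.trans hVU, fun k i => rr O (homOfLE hWV) (A (k, i)), hW, fun k => ?_⟩
  have := he k
  simp only [rs_sum, rs_rs] at this
  exact this

/-- Generators near a point. -/
theorem exists_gen_of_span {ι : Type*} [Fintype ι] (hU : x ∈ U)
    (t : ι → _root_.ModSite.sect M U)
    (h : Submodule.span (_root_.ModSite.stalkRing (pt x) O) (Set.range fun i => gm M hU (t i)) = ⊤)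
    (hM : ∀ V : Opens X, ∃ S ∈ Opens.grothendieckTopology X V,
      ∀ ⦃W : Opens X⦄ (g : W ⟶ V), S g → FTAt M W) :
    ∃ (V : Opens X) (hVU : V ≤ U), x ∈ V ∧ Gen M fun i => rs M (homOfLE hVU) (t i) := by
  obtain ⟨S, hS, hS'⟩ := hM U
  obtain ⟨W, hWU, hW, hSW⟩ := exists_nhd hS hU
  obtain ⟨n, s, hs⟩ := hS' _ hSW
  obtain ⟨V, hVW, A, hV, hA⟩ := exists_combination hW (fun i => rs M (homOfLE hWU) (t i)) s
    fun k => by
      simp only [gm_rs _ hW hU, h]
      exact Submodule.mem_top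
  refine ⟨V, hVW.trans hWU, hV, Ops.gen_of_coeffs (hs.res (homOfLE hVW)) A fun k => ?_⟩
  have := hA k
  simp only [rs_rs] at this
  exact this

/-- A map of modules of finite type which is surjective on a stalk is surjective nearby. -/
theorem exists_epi_restr (φ : N ⟶ M) (x : X)
    (hM : ∀ V : Opens X, ∃ S ∈ Opens.grothendieckTopology X V,
      ∀ ⦃W : Opens X⦄ (g : W ⟶ V), S g → FTAt M W)
    (hx : Function.Surjective (_root_.ModSite.stalkMap (pt x) φ).hom) :
    ∃ U : Opens X, x ∈ U ∧ Epi ((_root_.ModSite.restr O U).map φ) := by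
  obtain ⟨U, hU, n, s, hs⟩ := exists_point hM x
  choose m hm using fun k => hx (gm M hU (s k))
  obtain ⟨V, hVU, hV, g, hg⟩ := exists_gm hU m
  obtain ⟨W, hWV, hW, he⟩ := exists_rs_eq hV (fun k => rs M (homOfLE hVU) (s k))
    (fun k => ap φ (g k)) fun k => by
      rw [gm_rs _ hV hU, ← gm_ap, hg, hm]
  refine ⟨W, hW, epi_of_exists_lift _ fun V' t => ?_⟩
  obtain ⟨S, hS, hS'⟩ := hs (V'.hom ≫ homOfLE (hWV.trans hVU)) t
  refine ⟨Bridge.overSieve S, Bridge.overSieve_mem hS, fun V'' q hq => ?_⟩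
  obtain ⟨a, ha⟩ := hS' q.left ((Bridge.overSieve_apply q).1 hq)
  refine ⟨show _root_.ModSite.sect N V''.left from
    ∑ k, a k • rs N (q.left ≫ V'.hom ≫ homOfLE hWV) (g k), ?_⟩
  show ap φ (∑ k, a k • rs N (q.left ≫ V'.hom ≫ homOfLE hWV) (g k)) = rs M q.left t
  rw [ha, ap_sum]
  refine Finset.sum_congr rfl fun k _ => congrArg (a k • ·) ?_
  rw [ap_rs]
  have := congrArg (rs M (q.left ≫ V'.hom)) (he k).symm
  simp only [rs_rs] at this
  exact this

/-- A module of finite presentation with free stalk is free nearby. -/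
theorem exists_freeAt_of_stalk (x : X) (r : ℕ)
    (hM : ∀ V : Opens X, ∃ S ∈ Opens.grothendieckTopology X V,
      ∀ ⦃W : Opens X⦄ (g : W ⟶ V), S g → FPAt M W)
    (b : Module.Basis (Fin r) (_root_.ModSite.stalkRing (pt x) O) (_root_.ModSite.stalkAb (pt x) M)) :
    ∃ U : Opens X, x ∈ U ∧ FreeAt M r U := by
  classical
  obtain ⟨U, hU, n, m, s, R, hs, hR⟩ := exists_point hM x
  obtain ⟨V, hVU, hV, t, ht⟩ := exists_gm hU (fun j => b j)
  have hb : Submodule.span (_root_.ModSite.stalkRing (pt x) O) (Set.range fun i => gm M hV (t i)) = ⊤ := by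
    simp only [ht]
    exact b.span_eq
  obtain ⟨W, hWV, A, hW, hA⟩ := exists_combination hV t (fun i => rs M (homOfLE hVU) (s i))
    fun i => by rw [hb]; exact Submodule.mem_top
  obtain ⟨T, hT, hT'⟩ := Ops.exists_coeffs (hs.res (homOfLE hVU)) (homOfLE hWV)
    fun j => rs M (homOfLE hWV) (t j)
  obtain ⟨W', hW'W, hW', hTW⟩ := exists_nhd hT hW
  obtain ⟨D, hD⟩ := hT' _ hTW
  let u : W' ⟶ U := homOfLE (hW'W.trans (hWV.trans hVU))
  have hC : ∀ i, rs M u (s i) = ∑ j, rr O (homOfLE hW'W) (A i j) •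
      rs M (homOfLE (hW'W.trans hWV)) (t j) := fun i => by
    have := congrArg (rs M (homOfLE hW'W)) (hA i)
    simp only [rs_sum, rs_rs] at this
    exact this
  have hD' : ∀ j, rs M (homOfLE (hW'W.trans hWV)) (t j) = ∑ i, D j i • rs M u (s i) := fun j => by
    have := hD j
    simp only [rs_rs] at this
    exact this
  have hgen := Ops.gen_of_coeffs (hs.res u) _ hC
  have hrels := Ops.rels_change (hR.res u) _ hC D hD'
  have hindep : ∀ q j, gr O hW' (Sum.elim
      (fun j j' => (if j = j' then 1 else 0) - ∑ i, D j i * rr O (homOfLE hW'W) (A i j'))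
      (fun k j' => ∑ i, rr O u (R k i) * rr O (homOfLE hW'W) (A i j')) q j) = 0 := by
    intro q
    have h0 := congrArg (gm M hW') (hrels.1 q)
    rw [gm_sum, map_zero] at h0
    refine Fintype.linearIndependent_iff.1 b.linearIndependent _ (Eq.trans ?_ h0)
    refine Finset.sum_congr rfl fun j _ => ?_
    rw [gm_rs _ hW' hV, ht]
  obtain ⟨W'', hW''W', hx'', hz⟩ := exists_rr_eq hW'
    (fun p : (Fin r ⊕ Fin m) × Fin r => Sum.elim
      (fun j j' => (if j = j' then 1 else 0) - ∑ i, D j i * rr O (homOfLE hW'W) (A i j'))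
      (fun k j' => ∑ i, rr O u (R k i) * rr O (homOfLE hW'W) (A i j')) p.1 p.2)
    (fun _ => 0) fun p => (hindep p.1 p.2).trans (map_zero _).symm
  refine ⟨W'', hx'', _, hgen.res (homOfLE hW''W'), fun W₃ v a ha => funext fun j => ?_⟩
  obtain ⟨S, hS, hS'⟩ := (hrels.res (homOfLE hW''W')).2 v a ha
  refine eq_of_locally_ring hS fun W₄ g hg => ?_
  obtain ⟨c, hc⟩ := hS' g hg
  rw [hc j, Pi.zero_apply, map_zero]
  refine Finset.sum_eq_zero fun q _ => ?_
  beta_reduce
  erw [hz (q, j)]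
  rw [map_zero, map_zero, mul_zero]

end Groth.Agent.Lib.ModSiteLoc.Top
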