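import Groth.Agent.Lib.ModSiteLoc.Basic

/-!
# Finite type and finite presentation are element-wise notions

A map out of a finite free module over `C/U` is the same as a family of sections over `U`;
epimorphisms correspond to generators and finite presentations to generators and relations.
-/

set_option autoImplicit false
set_option linter.style.haveILetI false

universe u

open CategoryTheory Limits Opposite

namespace Groth.Agent.Lib.ModSiteLoc.Bridge

open Groth.Agent.Lib.FlatCrit.Factor Groth.Agent.Lib.ModSiteLoc.Basic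

variable {C : Type u} [SmallCategory C] {J : GrothendieckTopology C} {O : Sheaf J CommRingCat.{u}}
  {M : _root_.ModSite.Mod O} {U : C} {ι : Type u} [Fintype ι]

variable (O U ι) in
/-- The finite free module over `C/U`. -/
noncomputable abbrev Fr : _root_.ModSite.Mod (O.over U) :=
  SheafOfModules.free (R := _root_.ModSite.ringSh (O.over U)) ι

/-- The restriction of a module. -/
noncomputable abbrev ov (M : _root_.ModSite.Mod O) (U : C) : _root_.ModSite.Mod (O.over U) :=
  (_root_.ModSite.restr O U).obj M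

/-- The values of a map out of a free module. -/
noncomputable def vals (φ : Fr O U ι ⟶ ov M U) (i : ι) : _root_.ModSite.sect M U :=
  el (R := _root_.ModSite.ringSh O) (SheafOfModules.ιFree i ≫ φ)

/-- The map out of a free module with given values. -/
noncomputable def ofVals (s : ι → _root_.ModSite.sect M U) : Fr O U ι ⟶ ov M U :=
  Sigma.desc fun i => ofEl (R := _root_.ModSite.ringSh O) (M := ov M U) (s i)

lemma vals_ofVals (s : ι → _root_.ModSite.sect M U) : vals (ofVals s) = s := by
  funext i
  refine (congrArg (el (R := _root_.ModSite.ringSh O) (M := ov M U)) (Sigma.ι_desc _ _)).trans ?_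
  exact el_ofEl _

/-- A combination of the tautological sections. -/
noncomputable def comb {V : Over U} (a : ι → O.obj.obj (op V.left)) :
    _root_.ModSite.sect (Fr O U ι) V :=
  ∑ i, ((SheafOfModules.ιFree (R := _root_.ModSite.ringSh (O.over U)) i).val.app (op V)).hom (a i)

/-- A coordinate of a section of a free module. -/
noncomputable def coord {V : Over U} (x : _root_.ModSite.sect (Fr O U ι) V) (i : ι) :
    O.obj.obj (op V.left) :=
  ((proj (R := _root_.ModSite.ringSh (O.over U)) i).val.app (op V)).hom x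

lemma ap_unit (ψ : SheafOfModules.unit (_root_.ModSite.ringSh (O.over U)) ⟶ ov M U) (V : Over U)
    (a : O.obj.obj (op V.left)) :
    ((ψ.val.app (op V)).hom a : _root_.ModSite.sect M V.left) =
      a • rs M V.hom (el (R := _root_.ModSite.ringSh O) ψ) := by
  have h1 : (ψ.val.app (op V)).hom (1 : (O.over U).obj.obj (op V)) = rs M V.hom (el (R := _root_.ModSite.ringSh O) ψ) := by
    refine (show (ψ.val.app (op V)).hom (1 : (O.over U).obj.obj (op V)) =
      ((ov M U).unitHomEquiv ψ).val (op V) from rfl).trans ?_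
    exact val_eq (R := _root_.ModSite.ringSh O) ψ (op V)
  rw [← h1]
  refine Eq.trans ?_ ((ψ.val.app (op V)).hom.map_smul a (1 : (O.over U).obj.obj (op V)))
  exact congrArg (ψ.val.app (op V)).hom (mul_one (M := O.obj.obj (op V.left)) a).symm

lemma ap_comb (φ : Fr O U ι ⟶ ov M U) {V : Over U} (a : ι → O.obj.obj (op V.left)) :
    (ap φ (comb a) : _root_.ModSite.sect M V.left) = ∑ i, a i • rs M V.hom (vals φ i) := by
  refine (map_sum (ap φ (U := V)) _ _).trans (Finset.sum_congr rfl fun i _ => ?_)
  exact ap_unit (SheafOfModules.ιFree i ≫ φ) V (a i)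

lemma comb_coord {V : Over U} (x : _root_.ModSite.sect (Fr O U ι) V) : comb (coord x) = x := by
  let E : (Fr O U ι ⟶ Fr O U ι) →+ _root_.ModSite.sect (Fr O U ι) V :=
    { toFun := fun χ => ap χ x
      map_zero' := rfl
      map_add' := fun _ _ => rfl }
  refine Eq.trans ?_ (congrArg E (free_id (R := _root_.ModSite.ringSh (O.over U)) (ι := ι)))
  rw [map_sum]
  rfl

lemma ap_free (φ : Fr O U ι ⟶ ov M U) {V : Over U} (x : _root_.ModSite.sect (Fr O U ι) V) :
    (ap φ x : _root_.ModSite.sect M V.left) = ∑ i, coord x i • rs M V.hom (vals φ i) :=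
  (congrArg (ap φ) (comb_coord x).symm).trans (ap_comb φ _)

lemma coord_comb {V : Over U} (a : ι → O.obj.obj (op V.left)) (j : ι) : coord (comb a) j = a j := by
  classical
  refine (map_sum (ap (proj (R := _root_.ModSite.ringSh (O.over U)) j) (U := V)) _ _).trans ?_
  refine (Finset.sum_eq_single j (fun i _ hi => ?_) (fun h => absurd (Finset.mem_univ j) h)).trans ?_
  · refine (congrArg (fun q : SheafOfModules.unit (_root_.ModSite.ringSh (O.over U)) ⟶ _ => ap q (a i))
      ((ιFree_proj (R := _root_.ModSite.ringSh (O.over U)) j i).trans (if_neg hi))).trans ?_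
    rfl
  · refine (congrArg (fun q : SheafOfModules.unit (_root_.ModSite.ringSh (O.over U)) ⟶ _ => ap q (a j))
      ((ιFree_proj (R := _root_.ModSite.ringSh (O.over U)) j j).trans (if_pos rfl))).trans ?_
    rfl

lemma coord_rs {V V' : Over U} (g : V' ⟶ V) (x : _root_.ModSite.sect (Fr O U ι) V) (i : ι) :
    coord (rs (Fr O U ι) g x) i = rr O g.left (coord x i) :=
  ap_rs (proj (R := _root_.ModSite.ringSh (O.over U)) i) g x

/-- The sieve on an object of `C/U` of a sieve on its source. -/
def overSieve {V : Over U} (S : Sieve V.left) : Sieve V := (Sieve.overEquiv V).symm S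

lemma overSieve_mem {V : Over U} {S : Sieve V.left} (hS : S ∈ J V.left) :
    overSieve S ∈ (J.over U) V :=
  J.overEquiv_symm_mem_over V S hS

lemma overSieve_apply {V V' : Over U} {S : Sieve V.left} (g : V' ⟶ V) :
    overSieve S g ↔ S g.left := Sieve.overEquiv_symm_iff _ _

/-- A covering sieve of an object of `C/U` gives one on its source, with lifted arrows. -/
lemma exists_sieve_left {V : Over U} {S : Sieve V} (hS : S ∈ (J.over U) V) :
    ∃ T ∈ J V.left, ∀ ⦃W : C⦄ (g : W ⟶ V.left), T g →
      S (Over.homMk g : Over.mk (g ≫ V.hom) ⟶ V) :=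
  ⟨_, (GrothendieckTopology.mem_over_iff J S).1 hS, fun _ g hg => (Sieve.overEquiv_iff S g).1 hg⟩

theorem gen_of_epi (φ : Fr O U ι ⟶ ov M U) [Epi φ] : Gen M (vals φ) := by
  intro W v t
  obtain ⟨S, hS, hS'⟩ := exists_lift φ (U := Over.mk v) (fun _ : Unit => t)
  obtain ⟨T, hT, hT'⟩ := exists_sieve_left hS
  refine ⟨T, hT, fun W' g hg => ?_⟩
  obtain ⟨x, hx⟩ := hS' _ (hT' g hg)
  exact ⟨coord (x ()), (hx ()).symm.trans (ap_free φ _)⟩

theorem epi_of_gen (φ : Fr O U ι ⟶ ov M U) (h : Gen M (vals φ)) : Epi φ := by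
  refine epi_of_exists_lift φ fun V t => ?_
  obtain ⟨S, hS, hS'⟩ := h V.hom t
  refine ⟨overSieve S, overSieve_mem hS, fun V' g hg => ?_⟩
  obtain ⟨a, ha⟩ := hS' g.left ((overSieve_apply g).1 hg)
  refine ⟨comb a, (ap_comb φ a).trans (Eq.trans ?_ ha.symm)⟩
  rw [Over.w g]

variable {κ : Type u} [Fintype κ]

/-- The coefficients of a map between free modules. -/
noncomputable def coeffs (f : Fr O U κ ⟶ Fr O U ι) (k : κ) (i : ι) : O.obj.obj (op U) :=
  el (R := _root_.ModSite.ringSh O) (SheafOfModules.ιFree k ≫ f ≫ proj i)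

lemma coord_ap (f : Fr O U κ ⟶ Fr O U ι) {V : Over U} (y : _root_.ModSite.sect (Fr O U κ) V)
    (i : ι) : coord (ap f y) i = ∑ k, coord y k * rr O V.hom (coeffs f k i) :=
  ap_free (M := _root_.ModSite.unit O) (f ≫ proj i) y

lemma vals_comb_eq_zero_iff (φ : Fr O U ι ⟶ ov M U) {V : Over U} (a : ι → O.obj.obj (op V.left)) :
    ap φ (comb a) = 0 ↔ ∑ i, a i • rs M V.hom (vals φ i) = 0 :=
  ⟨fun h => (ap_comb φ a).symm.trans h, fun h => (ap_comb φ a).trans h⟩

theorem rels_of_exact (φ : Fr O U ι ⟶ ov M U) (f : Fr O U κ ⟶ Fr O U ι) (w : f ≫ φ = 0)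
    (hex : (ShortComplex.mk f φ w).Exact) : Rels M (vals φ) (coeffs f) := by
  refine ⟨fun k => ?_, fun W v a ha => ?_⟩
  · let e : _root_.ModSite.sect (Fr O U κ) (Over.mk (𝟙 U)) :=
      ((SheafOfModules.ιFree (R := _root_.ModSite.ringSh (O.over U)) k).val.app _).hom
        (1 : O.obj.obj (op U))
    have h1 : ap φ (ap f e) = 0 := congrArg (fun q : Fr O U κ ⟶ ov M U => ap q e) w
    have h2 := (ap_free φ (ap f e)).symm.trans h1
    refine Eq.trans (Finset.sum_congr rfl fun i _ => ?_) h2
    have hc : coord (ap f e) i = coeffs f k i :=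
      rfl
    rw [hc]
    exact congrArg (coeffs f k i • ·) (rs_id _).symm
  · obtain ⟨S, hS, hS'⟩ := exists_lift_of_exact f φ w hex (U := Over.mk v) (comb a)
      ((vals_comb_eq_zero_iff (V := Over.mk v) φ a).2 ha)
    obtain ⟨T, hT, hT'⟩ := exists_sieve_left hS
    refine ⟨T, hT, fun W' g hg => ?_⟩
    obtain ⟨y, hy⟩ := hS' _ (hT' g hg)
    refine ⟨coord y, fun i => ?_⟩
    have h3 := congrArg (fun z => coord z i) hy
    simp only [coord_rs, coord_comb, coord_ap] at h3
    exact h3.symm

theorem exact_of_rels (φ : Fr O U ι ⟶ ov M U) (f : Fr O U κ ⟶ Fr O U ι) (w : f ≫ φ = 0)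
    (h : Rels M (vals φ) (coeffs f)) : (ShortComplex.mk f φ w).Exact := by
  refine (ShortComplex.mk f φ w).exact_iff_epi_kernel_lift.2 ?_
  refine epi_of_exists_lift _ fun V z => ?_
  let x := ap (kernel.ι φ) z
  have hx : ap φ x = 0 := congrArg (fun q : kernel φ ⟶ ov M U => ap q z) (kernel.condition φ)
  obtain ⟨S, hS, hS'⟩ := h.2 V.hom (coord x) ((ap_free φ x).symm.trans hx)
  refine ⟨overSieve S, overSieve_mem hS, fun V' g hg => ?_⟩
  obtain ⟨b, hb⟩ := hS' g.left ((overSieve_apply g).1 hg)
  refine ⟨comb b, injective_ap (kernel.ι φ) _ ?_⟩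
  rw [ap_rs]
  refine (congrArg (fun q : Fr O U κ ⟶ Fr O U ι => ap q (comb b))
    (kernel.lift_ι φ f w)).trans ?_
  refine ((comb_coord _).symm.trans (congrArg comb ?_)).trans (comb_coord _)
  funext i
  rw [coord_ap, coord_rs, hb i]
  simp only [coord_comb, Over.w g]

/-- A presentation over `U` from generators and relations. -/
theorem exists_presentation {s : ι → _root_.ModSite.sect M U} {r : κ → ι → O.obj.obj (op U)}
    (hs : Gen M s) (hr : Rels M s r) :
    ∃ P : SheafOfModules.Presentation (R := _root_.ModSite.ringSh (O.over U)) (ov M U),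
      P.IsFinite := by
  classical
  let φ := ofVals s
  let f : Fr O U κ ⟶ Fr O U ι := Sigma.desc fun k =>
    ofEl (R := _root_.ModSite.ringSh O) (M := Fr O U ι) (comb (V := Over.mk (𝟙 U)) (r k))
  have hy : ∀ k, el (R := _root_.ModSite.ringSh O) (M := Fr O U ι) (SheafOfModules.ιFree k ≫ f) =
      comb (V := Over.mk (𝟙 U)) (r k) := fun k =>
    (congrArg (el (R := _root_.ModSite.ringSh O) (M := Fr O U ι)) (Sigma.ι_desc _ _)).trans
      (el_ofEl _)
  have hf : coeffs f = r := by
    funext k i
    refine Eq.trans ?_ (coord_comb (V := Over.mk (𝟙 U)) (r k) i)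
    exact congrArg (fun z => coord z i) (hy k)
  have hv : vals φ = s := vals_ofVals s
  have w : f ≫ φ = 0 := by
    apply Cofan.IsColimit.hom_ext (SheafOfModules.isColimitFreeCofan κ)
    intro k
    refine el_injective (R := _root_.ModSite.ringSh O) (M := ov M U) ?_
    refine Eq.trans ?_ el_zero.symm
    refine (el_comp (R := _root_.ModSite.ringSh O) (SheafOfModules.ιFree k ≫ f) φ).trans ?_
    refine (congrArg (ap φ) (hy k)).trans ((ap_comb φ (V := Over.mk (𝟙 U)) (r k)).trans ?_)
    rw [hv]
    exact (Finset.sum_congr rfl fun i _ => congrArg (r k i • ·) (rs_id (M := M) _)).trans (hr.1 k)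
  haveI : Epi φ := epi_of_gen φ (hv.symm ▸ hs)
  have hex := exact_of_rels φ f w (by rw [hv, hf]; exact hr)
  refine ⟨SheafOfModules.presentationOfIsCokernelFree f φ w (hex.gIsCokernel), ⟨⟨?_⟩, ⟨?_⟩⟩⟩
  · exact inferInstanceAs (Finite ι)
  · exact inferInstanceAs (Finite κ)

/-- Generators and relations from a finite presentation. -/
theorem fpAt_of_presentation (P : SheafOfModules.Presentation (R := _root_.ModSite.ringSh (O.over U)) (ov M U))
    [P.IsFinite] : FPAt M U := by
  haveI : Finite P.generators.I := SheafOfModules.GeneratingSections.IsFiniteType.finite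
  haveI : Finite P.relations.I := SheafOfModules.GeneratingSections.IsFiniteType.finite
  haveI := Fintype.ofFinite P.generators.I
  haveI := Fintype.ofFinite P.relations.I
  haveI : Epi P.generators.π := P.generators.epi
  have w : (P.relations.π ≫ kernel.ι P.generators.π) ≫ P.generators.π = 0 := by
    rw [Category.assoc, kernel.condition, comp_zero]
  refine FPAt.mk' (gen_of_epi P.generators.π)
    (rels_of_exact P.generators.π (P.relations.π ≫ kernel.ι P.generators.π) w ?_)
  exact ShortComplex.exact_of_g_is_cokernel (ShortComplex.mk _ P.generators.π w) P.isColimit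

/-- Finite type, element-wise. -/
theorem isFiniteType_iff :
    SheafOfModules.IsFiniteType (R := _root_.ModSite.ringSh O) M ↔
      ∀ X : C, ∃ S ∈ J X, ∀ ⦃W : C⦄ (g : W ⟶ X), S g → FTAt M W := by
  constructor
  · rintro ⟨σ, hσ⟩ X
    refine ⟨_, σ.coversTop X, fun W g hg => ?_⟩
    obtain ⟨i, ⟨v⟩⟩ := (Sieve.mem_ofObjects_iff _ _).1 hg
    haveI := hσ.isFiniteType i
    letI : Fintype (σ.generators i).I :=
      haveI : Finite (σ.generators i).I := SheafOfModules.GeneratingSections.IsFiniteType.finite
      Fintype.ofFinite _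
    haveI : Finite (σ.generators i).I := SheafOfModules.GeneratingSections.IsFiniteType.finite
    exact (FTAt.mk' (@gen_of_epi _ _ _ _ M (σ.X i) (σ.generators i).I _ (σ.generators i).π
      (σ.generators i).epi)).res v
  · intro h
    choose n s hs using fun W : {W : C // FTAt M W} => W.2
    have hs' : ∀ W, Gen M fun i : ULift.{u} (Fin (n W)) => s W i.down := fun W =>
      (hs W).reindex Equiv.ulift.{u, 0}
    haveI : ∀ W, Epi (ofVals (M := M) fun i : ULift.{u} (Fin (n W)) => s W i.down) := fun W =>
      epi_of_gen _ (by rw [vals_ofVals]; exact hs' W)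
    let σ : SheafOfModules.LocalGeneratorsData.{u} (R := _root_.ModSite.ringSh O) M :=
      SheafOfModules.LocalGeneratorsData.mk (C := C) (R := _root_.ModSite.ringSh O) (M := M) {W : C // FTAt M W} (fun W => W.1)
        (fun X => by
          obtain ⟨S, hS, hS'⟩ := h X
          exact J.superset_covering
            (fun W g hg => (Sieve.mem_ofObjects_iff _ _).2 ⟨⟨W, hS' g hg⟩, ⟨𝟙 W⟩⟩) hS)
        (fun W =>
          { I := ULift.{u} (Fin (n W))
            s := SheafOfModules.freeHomEquiv _ (ofVals fun i : ULift.{u} (Fin (n W)) => s W i.down)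
            epi := (Equiv.symm_apply_apply (SheafOfModules.freeHomEquiv _) (ofVals fun i : ULift.{u} (Fin (n W)) => s W i.down)).symm ▸ this W })
    have hσ : σ.IsFiniteType := SheafOfModules.LocalGeneratorsData.IsFiniteType.mk (p := σ) fun W =>
      SheafOfModules.GeneratingSections.IsFiniteType.mk (show Finite (ULift.{u} (Fin (n W))) from inferInstance)
    exact SheafOfModules.IsFiniteType.mk.{u, u, u} ⟨σ, hσ⟩

/-- Finite presentation, element-wise. -/
theorem isFinitePresentation_iff :
    SheafOfModules.IsFinitePresentation (R := _root_.ModSite.ringSh O) M ↔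
      ∀ X : C, ∃ S ∈ J X, ∀ ⦃W : C⦄ (g : W ⟶ X), S g → FPAt M W := by
  constructor
  · rintro ⟨q, hq⟩ X
    refine ⟨_, q.coversTop X, fun W g hg => ?_⟩
    obtain ⟨i, ⟨v⟩⟩ := (Sieve.mem_ofObjects_iff _ _).1 hg
    exact (@fpAt_of_presentation _ _ _ _ M (q.X i) (q.presentation i) (hq.isFinite_presentation i)).res v
  · intro h
    have hP : ∀ W : {W : C // FPAt M W},
        ∃ P : SheafOfModules.Presentation (R := _root_.ModSite.ringSh (O.over W.1)) (ov M W.1),
          P.IsFinite := fun W => by
      obtain ⟨n, m, s, r, hs, hr⟩ := W.2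
      exact exists_presentation (ι := ULift.{u} (Fin n)) (κ := ULift.{u} (Fin m))
        (hs.reindex Equiv.ulift.{u, 0}) (hr.reindex Equiv.ulift.{u, 0} Equiv.ulift.{u, 0})
    let q : SheafOfModules.QuasicoherentData.{u} (R := _root_.ModSite.ringSh O) M :=
      SheafOfModules.QuasicoherentData.mk (C := C) (R := _root_.ModSite.ringSh O) (M := M) {W : C // FPAt M W} (fun W => W.1)
        (fun X => by
          obtain ⟨S, hS, hS'⟩ := h X
          exact J.superset_covering
            (fun W g hg => (Sieve.mem_ofObjects_iff _ _).2 ⟨⟨W, hS' g hg⟩, ⟨𝟙 W⟩⟩) hS)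
        (fun W => (hP W).choose)
    have hq : q.IsFinitePresentation :=
      SheafOfModules.QuasicoherentData.IsFinitePresentation.mk (q := q) fun W => (hP W).choose_spec
    exact SheafOfModules.IsFinitePresentation.mk.{u, u, u} ⟨q, hq⟩

/-- An isomorphism with a finite free module over `U`, as sections. -/
theorem gen_rels_of_isIso (e : ov M U ≅ Fr O U ι) :
    Gen M (vals e.inv) ∧
      ∀ ⦃W : C⦄ (v : W ⟶ U) (a : ι → O.obj.obj (op W)),
        ∑ i, a i • rs M v (vals e.inv i) = 0 → a = 0 := by
  refine ⟨gen_of_epi e.inv, fun W v a ha => funext fun i => ?_⟩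
  have h0 : comb (V := Over.mk v) a = 0 := injective_ap e.inv (Over.mk v)
    (((vals_comb_eq_zero_iff (V := Over.mk v) e.inv a).2 ha).trans (map_zero _).symm)
  rw [← coord_comb (V := Over.mk v) a i, h0]
  exact map_zero (ap (proj (R := _root_.ModSite.ringSh (O.over U)) i) (U := Over.mk v))

/-- Independent generators over `U` give an isomorphism with a free module. -/
theorem nonempty_iso_free {s : ι → _root_.ModSite.sect M U} (hs : Gen M s)
    (hi : ∀ ⦃W : C⦄ (v : W ⟶ U) (a : ι → O.obj.obj (op W)), ∑ i, a i • rs M v (s i) = 0 → a = 0) :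
    Nonempty (ov M U ≅ Fr O U ι) := by
  let φ := ofVals s
  have hv : vals φ = s := vals_ofVals s
  haveI : Epi φ := epi_of_gen φ (hv.symm ▸ hs)
  haveI : Mono φ := mono_of_injective φ fun V x hx => by
    have h := (ap_free φ x).symm.trans hx
    rw [hv] at h
    have h' := hi V.hom (coord x) h
    rw [← comb_coord x, h']
    exact Finset.sum_eq_zero fun i _ => map_zero _
  haveI : IsIso φ := isIso_of_mono_of_epi φ
  exact ⟨(asIso φ).symm⟩

end Groth.Agent.Lib.ModSiteLoc.Bridge
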