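import Groth.Agent.Lib.ModSiteLoc.Sum
import Mathlib.LinearAlgebra.Finsupp.LinearCombination
import Mathlib.Algebra.Category.ModuleCat.Sheaf.LocallyFree

/-!
# Presentations of arbitrary size, element-wise

Sections of a free module are locally finite combinations of the tautological sections `bas`.
A presentation over `U` is the same as sections `s` of `M` and sections `y` of a free module,
over `U`, such that `s` generate locally and `y` generate the relations between the `s` locally.
-/

set_option autoImplicit false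
set_option linter.style.haveILetI false

universe u

open CategoryTheory Limits Opposite

namespace Groth.Agent.Lib.ModSiteLoc.Free

open Groth.Agent.Lib.ModSiteLoc.Basic Groth.Agent.Lib.FlatCrit.Factor

variable {C : Type u} [SmallCategory C] {J : GrothendieckTopology C} {O : Sheaf J CommRingCat.{u}}
  {M N : _root_.ModSite.Mod O} {U W : C} {ι κ : Type u}

variable (O ι) in
/-- The free module on `ι`. -/
noncomputable abbrev FM : _root_.ModSite.Mod O :=
  SheafOfModules.free (R := _root_.ModSite.ringSh O) ι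

variable (O) in
/-- The tautological sections of a free module. -/
noncomputable def bas (U : C) (i : ι) : _root_.ModSite.sect (FM O ι) U :=
  ap (SheafOfModules.ιFree (R := _root_.ModSite.ringSh O) i) (1 : O.obj.obj (op U))

/-- Finite combinations. -/
noncomputable abbrev lc (s : ι → _root_.ModSite.sect M U) :
    (ι →₀ O.obj.obj (op U)) →ₗ[O.obj.obj (op U)] _root_.ModSite.sect M U :=
  Finsupp.linearCombination (O.obj.obj (op U)) s

lemma ap_lc (φ : M ⟶ N) (s : ι → _root_.ModSite.sect M U) (a : ι →₀ O.obj.obj (op U)) :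
    ap φ (lc s a) = lc (fun i => ap φ (s i)) a :=
  Finsupp.apply_linearCombination _ (ap φ) s a

lemma rs_lc (v : W ⟶ U) (s : ι → _root_.ModSite.sect M U) (a : ι →₀ O.obj.obj (op U)) :
    rs M v (lc s a) = lc (fun i => rs M v (s i)) (a.mapRange (rr O v) (map_zero _)) := by
  classical
  rw [Finsupp.linearCombination_apply, Finsupp.linearCombination_apply,
    Finsupp.sum_mapRange_index (h := fun i b => b • rs M v (s i)) (fun i => zero_smul _ _),
    map_finsuppSum]
  exact Finset.sum_congr rfl fun i _ => rs_smul v _ _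

lemma rs_bas (v : W ⟶ U) (i : ι) : rs (FM O ι) v (bas O U i) = bas O W i :=
  (ap_rs _ v _).symm.trans (congrArg (ap _) (map_one (rr O v)))

lemma ap_proj_bas [DecidableEq ι] (i j : ι) :
    ap (DerCat.Compact.proj (fun _ : ι => _root_.ModSite.unit O) j) (bas O U i) =
      (if i = j then (1 : O.obj.obj (op U)) else 0) := by
  split_ifs with h
  · subst h
    exact congrArg (fun q : _root_.ModSite.unit O ⟶ _ => ap q (1 : O.obj.obj (op U)))
      (DerCat.Compact.ι_proj (fun _ : ι => _root_.ModSite.unit O) i)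
  · exact congrArg (fun q : _root_.ModSite.unit O ⟶ _ => ap q (1 : O.obj.obj (op U)))
      (DerCat.Compact.ι_proj_ne (fun _ : ι => _root_.ModSite.unit O) h)

lemma lc_bas_injective : Function.Injective (lc (M := FM O ι) (bas O U)) := by
  classical
  intro a b h
  ext j
  have key : ∀ c : ι →₀ O.obj.obj (op U),
      (ap (DerCat.Compact.proj (fun _ : ι => _root_.ModSite.unit O) j) (lc (M := FM O ι) (bas O U) c) :
        O.obj.obj (op U)) = c j := fun c => by
    refine (ap_lc (DerCat.Compact.proj (fun _ : ι => _root_.ModSite.unit O) j) _ c).trans ?_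
    rw [Finsupp.linearCombination_apply]
    refine Eq.trans (Finset.sum_congr rfl fun i _ => congrArg (c i • ·) (ap_proj_bas i j)) ?_
    change ∑ i ∈ c.support, c i * (if i = j then 1 else 0) = c j
    simp [Finset.sum_ite_eq', Finsupp.mem_support_iff]
    exact fun h => h.symm
  rw [← key a, ← key b, h]

/-- Sections of a free module are locally finite combinations. -/
theorem exists_lc (x : _root_.ModSite.sect (FM O ι) U) :
    ∃ S ∈ J U, ∀ ⦃V : C⦄ (f : V ⟶ U), S f →
      ∃ a : ι →₀ O.obj.obj (op V), rs (FM O ι) f x = lc (bas O V) a := by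
  classical
  obtain ⟨S, hS, hS'⟩ := Sum.exists_cover (F := fun _ : ι => _root_.ModSite.unit O) x
  refine ⟨S, hS, fun V f hf => ?_⟩
  obtain ⟨T, hT⟩ := hS' f hf
  let z : ι → O.obj.obj (op V) := fun i =>
    ap (DerCat.Compact.proj (fun _ : ι => _root_.ModSite.unit O) i)
      (rs (∐ fun _ : ι => _root_.ModSite.unit O) f x)
  refine ⟨∑ i ∈ T, Finsupp.single i (z i), (hT.symm.trans (Sum.ap_cut T _)).trans ?_⟩
  rw [map_sum]
  refine Finset.sum_congr rfl fun i _ => ?_
  rw [Finsupp.linearCombination_single]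
  refine Eq.trans ?_ (map_smul (ap (SheafOfModules.ιFree (R := _root_.ModSite.ringSh O) i) (U := V))
    (z i) (1 : O.obj.obj (op V)))
  exact congrArg (ap (SheafOfModules.ιFree (R := _root_.ModSite.ringSh O) i) (U := V))
    (mul_one (z i)).symm

/-- The arrows along which `t` is a finite combination of the given sections. -/
def lcSieve (s : ι → _root_.ModSite.sect M U) (v : W ⟶ U) (t : _root_.ModSite.sect M W) :
    Sieve W where
  arrows W' g := ∃ a : ι →₀ O.obj.obj (op W'), rs M g t = lc (fun i => rs M (g ≫ v) (s i)) a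
  downward_closed := fun {W' W''} g hg h => by
    obtain ⟨a, ha⟩ := hg
    refine ⟨a.mapRange (rr O h) (map_zero _), ?_⟩
    rw [← rs_rs g h t, ha, rs_lc]
    simp only [rs_rs, Category.assoc]

/-- `s` generate `M` locally over `U`. -/
def GenI (s : ι → _root_.ModSite.sect M U) : Prop :=
  ∀ ⦃W : C⦄ (v : W ⟶ U) (t : _root_.ModSite.sect M W), lcSieve s v t ∈ J W

/-- `y` generate the relations between the sections `s` locally. -/
def RelI (s : ι → _root_.ModSite.sect M U) (y : κ → _root_.ModSite.sect (FM O ι) U) : Prop :=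
  (∀ k ⦃W : C⦄ (v : W ⟶ U) (a : ι →₀ O.obj.obj (op W)),
    rs (FM O ι) v (y k) = lc (bas O W) a → lc (fun i => rs M v (s i)) a = 0) ∧
  ∀ ⦃W : C⦄ (v : W ⟶ U) (a : ι →₀ O.obj.obj (op W)), lc (fun i => rs M v (s i)) a = 0 →
    lcSieve y v (lc (bas O W) a) ∈ J W

theorem GenI.res {s : ι → _root_.ModSite.sect M U} (h : GenI s) (u : W ⟶ U) :
    GenI fun i => rs M u (s i) := by
  intro W' v t
  refine J.superset_covering (fun V g hg => ?_) (h (v ≫ u) t)
  obtain ⟨a, ha⟩ := hg
  exact ⟨a, by simpa only [rs_rs, Category.assoc] using ha⟩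

theorem RelI.res {s : ι → _root_.ModSite.sect M U} {y : κ → _root_.ModSite.sect (FM O ι) U}
    (h : RelI s y) (u : W ⟶ U) : RelI (fun i => rs M u (s i)) fun k => rs (FM O ι) u (y k) := by
  refine ⟨fun k W' v a ha => ?_, fun W' v a ha => ?_⟩
  · simp only [rs_rs] at ha ⊢
    exact h.1 k _ a ha
  · simp only [rs_rs] at ha
    refine J.superset_covering (fun V g hg => ?_) (h.2 (v ≫ u) a ha)
    obtain ⟨b, hb⟩ := hg
    exact ⟨b, by simpa only [rs_rs, Category.assoc] using hb⟩

section Bridge

variable (O U ι) in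
/-- The restriction of the free module. -/
noncomputable abbrev FU : _root_.ModSite.Mod (O.over U) := (_root_.ModSite.restr O U).obj (FM O ι)

/-- The restriction of a module. -/
noncomputable abbrev ovr (M : _root_.ModSite.Mod O) (U : C) : _root_.ModSite.Mod (O.over U) :=
  (_root_.ModSite.restr O U).obj M

theorem preservesColimits_restr :
    PreservesColimitsOfSize.{u, u} (_root_.ModSite.restr O U) := by
  let e : _root_.ModSite.restr O U ⋙ SheafOfModules.toSheaf _ ≅
      SheafOfModules.toSheaf _ ⋙ (Over.forget U).sheafPushforwardContinuous AddCommGrpCat.{u}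
        (J.over U) J := Iso.refl _
  haveI : PreservesColimitsOfSize.{u, u} ((Over.forget U).sheafPushforwardContinuous
      AddCommGrpCat.{u} (J.over U) J) :=
    ((Over.forget U).sheafAdjunctionCocontinuous AddCommGrpCat.{u} (J.over U)
      J).leftAdjoint_preservesColimits
  haveI : PreservesColimitsOfSize.{u, u}
      (_root_.ModSite.restr O U ⋙ SheafOfModules.toSheaf _) :=
    preservesColimits_of_natIso e.symm
  exact SiteMod.Basic.preservesColimits_of_comp_toSheaf _

variable (O U ι) in
/-- The free module over `C/U` is the restriction of the free module. -/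
noncomputable def eU : SheafOfModules.free (R := _root_.ModSite.ringSh (O.over U)) ι ≅ FU O U ι :=
  haveI := preservesColimits_restr (O := O) (U := U)
  SheafOfModules.mapFreeIso (_root_.ModSite.restr O U) ι (Iso.refl _)

lemma ιFree_eU (i : ι) : SheafOfModules.ιFree i ≫ (eU O U ι).hom =
    (_root_.ModSite.restr O U).map (SheafOfModules.ιFree i) := by
  haveI := preservesColimits_restr (O := O) (U := U)
  exact (SheafOfModules.ιFree_mapFreeIso_hom (_root_.ModSite.restr O U) ι (Iso.refl _) i).trans
    (Category.id_comp _)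

/-- The map out of a free module with given values. -/
noncomputable def toMap (s : ι → _root_.ModSite.sect M U) : FU O U ι ⟶ ovr M U :=
  (eU O U ι).inv ≫ Sigma.desc fun i => ofEl (R := _root_.ModSite.ringSh O) (M := ovr M U) (s i)

lemma restr_ι_toMap (s : ι → _root_.ModSite.sect M U) (i : ι) :
    (_root_.ModSite.restr O U).map (SheafOfModules.ιFree i) ≫ toMap s =
      ofEl (R := _root_.ModSite.ringSh O) (M := ovr M U) (s i) := by
  refine (congrArg (· ≫ toMap s) (ιFree_eU i).symm).trans ?_
  refine (Category.assoc _ _ _).trans ?_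
  refine (congrArg (SheafOfModules.ιFree i ≫ ·) (Iso.hom_inv_id_assoc _ _)).trans ?_
  exact Sigma.ι_desc _ _

lemma ap_toMap_bas (s : ι → _root_.ModSite.sect M U) (V : Over U) (i : ι) :
    (ap (toMap s) (U := V) (bas O V.left i) : _root_.ModSite.sect M V.left) = rs M V.hom (s i) := by
  refine (congrArg (fun q => ap q (U := V) (1 : O.obj.obj (op V.left))) (restr_ι_toMap s i)).trans ?_
  let ψ := ofEl (R := _root_.ModSite.ringSh O) (M := ovr M U) (s i)
  refine (show ap ψ (U := V) (1 : O.obj.obj (op V.left)) = ((ovr M U).unitHomEquiv ψ).val (op V) from rfl).trans ?_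
  refine (val_eq (R := _root_.ModSite.ringSh O) ψ (op V)).trans ?_
  exact congrArg (rs M V.hom) (el_ofEl _)

lemma ap_toMap_lc (s : ι → _root_.ModSite.sect M U) {V : Over U} (a : ι →₀ O.obj.obj (op V.left)) :
    (ap (toMap s) (U := V) (lc (bas O V.left) a) : _root_.ModSite.sect M V.left) =
      lc (fun i => rs M V.hom (s i)) a := by
  refine (Finsupp.apply_linearCombination (O.obj.obj (op V.left))
    (show _root_.ModSite.sect (FM O ι) V.left →ₗ[O.obj.obj (op V.left)]
      _root_.ModSite.sect M V.left from ap (toMap s) (U := V)) (bas O V.left) a).trans ?_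
  exact congrArg (fun t => Finsupp.linearCombination (O.obj.obj (op V.left)) t a)
    (funext fun i => ap_toMap_bas s V i)

/-- Every map out of the restricted free module is determined by its values. -/
lemma eq_toMap (φ : FU O U ι ⟶ ovr M U) :
    φ = toMap (O := O) (M := M) (U := U) (fun i => el (R := _root_.ModSite.ringSh O) (M := ovr M U)
      ((_root_.ModSite.restr O U).map (SheafOfModules.ιFree i) ≫ φ)) := by
  rw [← cancel_epi (eU O U ι).hom]
  refine Cofan.IsColimit.hom_ext (SheafOfModules.isColimitFreeCofan ι) _ _ fun i => ?_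
  refine ((Category.assoc _ _ _).symm.trans (congrArg (· ≫ φ) (ιFree_eU i))).trans
    (Eq.trans ?_ ((Category.assoc _ _ _).symm.trans (congrArg (· ≫ toMap _) (ιFree_eU i))).symm)
  exact (el_injective (R := _root_.ModSite.ringSh O) (el_ofEl _).symm).trans (restr_ι_toMap (O := O) (M := M) (U := U) (fun i => el (R := _root_.ModSite.ringSh O) (M := ovr M U)
      ((_root_.ModSite.restr O U).map (SheafOfModules.ιFree i) ≫ φ)) i).symm

lemma exists_sieve_left {V : Over U} {S : Sieve V} (hS : S ∈ (J.over U) V) :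
    ∃ T ∈ J V.left, ∀ ⦃W : C⦄ (g : W ⟶ V.left), T g →
      S (Over.homMk g : Over.mk (g ≫ V.hom) ⟶ V) :=
  ⟨_, (GrothendieckTopology.mem_over_iff J S).1 hS, fun _ g hg => (Sieve.overEquiv_iff S g).1 hg⟩

theorem epi_toMap_iff (s : ι → _root_.ModSite.sect M U) : Epi (toMap s) ↔ GenI s := by
  constructor
  · intro _ W v t
    obtain ⟨S, hS, hS'⟩ := exists_lift (toMap s) (U := Over.mk v) (fun _ : Unit => t)
    obtain ⟨T, hT, hT'⟩ := exists_sieve_left hS
    refine J.transitive hT _ fun W' g hg => ?_
    obtain ⟨x, hx⟩ := hS' _ (hT' g hg)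
    obtain ⟨R, hR, hR'⟩ := exists_lc (O := O) (ι := ι) (x ())
    refine J.superset_covering (fun W'' h hh => ?_) hR
    obtain ⟨a, ha⟩ := hR' h hh
    refine ⟨a, ?_⟩
    have h1 := congrArg (rs M h) (hx ())
    have h2 : (ap (toMap s) (U := Over.mk (h ≫ g ≫ v)) (rs (FM O ι) h (x ())) :
        _root_.ModSite.sect M W'') = rs M (h ≫ g) t :=
      (ap_rs (toMap s) (Over.homMk h : Over.mk (h ≫ g ≫ v) ⟶ Over.mk (g ≫ v)) (x ())).trans
        (h1.trans (rs_rs g h t))
    refine ((congrArg (ap (toMap s) (U := Over.mk (h ≫ g ≫ v))) ha).symm.trans h2).symm.trans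
      ((ap_toMap_lc s (V := Over.mk (h ≫ g ≫ v)) a).trans ?_)
    simp only [Category.assoc]
    rfl
  · intro h
    refine epi_of_exists_lift _ fun V t => ?_
    refine ⟨(Sieve.overEquiv V).symm (lcSieve s V.hom t), J.overEquiv_symm_mem_over V _ (h V.hom t),
      fun V' g hg => ?_⟩
    obtain ⟨a, ha⟩ := (Sieve.overEquiv_symm_iff _ _).1 hg
    refine ⟨lc (bas O V'.left) a, (ap_toMap_lc s a).trans (Eq.trans ?_ ha.symm)⟩
    rw [Over.w g]

lemma toMap_comp_eq_zero_iff (s : ι → _root_.ModSite.sect M U) (y : κ → _root_.ModSite.sect (FM O ι) U) :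
    toMap y ≫ toMap s = 0 ↔
      ∀ k ⦃W : C⦄ (v : W ⟶ U) (a : ι →₀ O.obj.obj (op W)),
        rs (FM O ι) v (y k) = lc (bas O W) a → lc (fun i => rs M v (s i)) a = 0 := by
  constructor
  · intro h k W v a ha
    have h1 : ap (toMap y ≫ toMap s) (U := Over.mk v) (bas O W k) = 0 :=
      congrArg (fun q : FU O U κ ⟶ ovr M U => ap q (U := Over.mk v) (bas O W k)) h
    refine Eq.trans ?_ h1
    refine (ap_toMap_lc s (V := Over.mk v) a).symm.trans ?_
    exact congrArg (ap (toMap s) (U := Over.mk v)) ((ap_toMap_bas y (Over.mk v) k).trans ha).symm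
  · intro h
    rw [← cancel_epi (eU O U κ).hom, comp_zero]
    refine Cofan.IsColimit.hom_ext (SheafOfModules.isColimitFreeCofan κ) _ _ fun k => ?_
    refine (((Category.assoc _ _ _).symm.trans (congrArg (· ≫ toMap y ≫ toMap s) (ιFree_eU k))).trans
      ((Category.assoc _ _ _).symm.trans (congrArg (· ≫ toMap s) (restr_ι_toMap y k)))).trans
      (Eq.trans ?_ comp_zero.symm)
    refine el_injective (R := _root_.ModSite.ringSh O) ?_
    refine (el_comp (R := _root_.ModSite.ringSh O) _ _).trans (Eq.trans ?_ el_zero.symm)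
    rw [el_ofEl]
    obtain ⟨S, hS, hS'⟩ := exists_lc (y k)
    refine eq_of_locally (M := M) hS fun W g hg => ?_
    obtain ⟨a, ha⟩ := hS' g hg
    refine Eq.trans ?_ (map_zero (rs M g)).symm
    refine Eq.trans ?_ (h k g a ha)
    let q : Over.mk g ⟶ Over.mk (𝟙 U) := Over.homMk g
    refine (ap_rs (toMap s) q (y k)).symm.trans ?_
    exact (congrArg (ap (toMap s) (U := Over.mk g)) ha).trans (ap_toMap_lc s (V := Over.mk g) a)

theorem exact_toMap (s : ι → _root_.ModSite.sect M U) (y : κ → _root_.ModSite.sect (FM O ι) U)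
    (w : toMap y ≫ toMap s = 0) (h : RelI s y) :
    (ShortComplex.mk (toMap y) (toMap s) w).Exact := by
  refine (ShortComplex.mk (toMap y) (toMap s) w).exact_iff_epi_kernel_lift.2 ?_
  refine epi_of_exists_lift _ fun V z => ?_
  let x : _root_.ModSite.sect (FM O ι) V.left := ap (kernel.ι (toMap s)) (U := V) z
  obtain ⟨S, hS, hS'⟩ := exists_lc x
  let Good : Sieve V.left :=
    { arrows := fun W g => ∃ c : κ →₀ O.obj.obj (op W),
        rs (FM O ι) g x = lc (fun k => rs (FM O ι) (g ≫ V.hom) (y k)) c
      downward_closed := (lcSieve y V.hom x).downward_closed }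
  refine ⟨(Sieve.overEquiv V).symm Good, J.overEquiv_symm_mem_over V _
    (J.transitive hS _ fun W g hg => ?_), fun V' g hg => ?_⟩
  · obtain ⟨a, ha⟩ := hS' g hg
    have h0 : lc (fun i => rs M (g ≫ V.hom) (s i)) a = 0 := by
      refine (ap_toMap_lc s (V := Over.mk (g ≫ V.hom)) a).symm.trans ?_
      refine (congrArg (ap (toMap s) (U := Over.mk (g ≫ V.hom))) ha).symm.trans ?_
      refine (ap_rs (toMap s) (Over.homMk g : Over.mk (g ≫ V.hom) ⟶ V) x).trans ?_
      have hx : ap (toMap s) (U := V) x = 0 :=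
        congrArg (fun q : kernel (toMap s) ⟶ ovr M U => ap q (U := V) z) (kernel.condition (toMap s))
      exact (congrArg _ hx).trans (map_zero _)
    refine J.superset_covering (fun W' h hh => ?_) (h.2 (g ≫ V.hom) a h0)
    obtain ⟨c, hc⟩ := hh
    refine ⟨c, ?_⟩
    rw [← rs_rs g h x, ha, hc]
    simp only [Category.assoc]
  · obtain ⟨c, hc⟩ := (Sieve.overEquiv_symm_iff _ _).1 hg
    refine ⟨lc (bas O V'.left) c, injective_ap (kernel.ι (toMap s)) _ ?_⟩
    rw [ap_rs]
    refine (congrArg (fun q : FU O U κ ⟶ FU O U ι => ap q (U := V') (lc (bas O V'.left) c))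
      (kernel.lift_ι (toMap s) (toMap y) w)).trans ?_
    refine (ap_toMap_lc y c).trans (Eq.trans ?_ hc.symm)
    rw [Over.w g]

theorem relI_of_exact (s : ι → _root_.ModSite.sect M U) (y : κ → _root_.ModSite.sect (FM O ι) U)
    (w : toMap y ≫ toMap s = 0) (h : (ShortComplex.mk (toMap y) (toMap s) w).Exact) : RelI s y := by
  refine ⟨(toMap_comp_eq_zero_iff s y).1 w, fun W v a ha => ?_⟩
  obtain ⟨S, hS, hS'⟩ := exists_lift_of_exact (toMap y) (toMap s) w h (U := Over.mk v)
    (lc (bas O W) a) ((ap_toMap_lc s (V := Over.mk v) a).trans ha)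
  obtain ⟨T, hT, hT'⟩ := exists_sieve_left hS
  refine J.transitive hT _ fun W' g hg => ?_
  obtain ⟨x, hx⟩ := hS' _ (hT' g hg)
  obtain ⟨R, hR, hR'⟩ := exists_lc (O := O) (ι := κ) x
  refine J.superset_covering (fun W'' h hh => ?_) hR
  obtain ⟨c, hc⟩ := hR' h hh
  refine ⟨c, ?_⟩
  have h1 := congrArg (rs (FM O ι) h) hx
  have h2 : (ap (toMap y) (U := Over.mk (h ≫ g ≫ v)) (rs (FM O κ) h x) :
      _root_.ModSite.sect (FM O ι) W'') = rs (FM O ι) (h ≫ g) (lc (bas O W) a) :=
    (ap_rs (toMap y) (Over.homMk h : Over.mk (h ≫ g ≫ v) ⟶ Over.mk (g ≫ v)) x).trans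
      (h1.trans (rs_rs (M := FM O ι) g h _))
  refine ((congrArg (ap (toMap y) (U := Over.mk (h ≫ g ≫ v))) hc).symm.trans h2).symm.trans
    ((ap_toMap_lc y (V := Over.mk (h ≫ g ≫ v)) c).trans ?_)
  simp only [Category.assoc]
  rfl

/-- A presentation from generators and relations. -/
noncomputable def presentation {s : ι → _root_.ModSite.sect M U}
    {y : κ → _root_.ModSite.sect (FM O ι) U} (hs : GenI s) (hy : RelI s y) :
    SheafOfModules.Presentation (R := _root_.ModSite.ringSh (O.over U)) (ovr M U) :=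
  haveI : Epi (toMap s) := (epi_toMap_iff s).2 hs
  have w : toMap y ≫ toMap s = 0 := (toMap_comp_eq_zero_iff s y).2 hy.1
  SheafOfModules.presentationOfIsCokernelFree ((eU O U κ).hom ≫ toMap y ≫ (eU O U ι).inv)
    ((eU O U ι).hom ≫ toMap s)
    (by rw [Category.assoc, Category.assoc, Iso.inv_hom_id_assoc, w, comp_zero])
    (((ShortComplex.exact_iff_of_iso
      (ShortComplex.isoMk (S₁ := ShortComplex.mk ((eU O U κ).hom ≫ toMap y ≫ (eU O U ι).inv)
          ((eU O U ι).hom ≫ toMap s)
          (by rw [Category.assoc, Category.assoc, Iso.inv_hom_id_assoc, w, comp_zero]))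
        (S₂ := ShortComplex.mk (toMap y) (toMap s) w)
        (eU O U κ) (eU O U ι) (Iso.refl _) (by simp) (by simp))).2
        (exact_toMap s y w hy)).gIsCokernel)

/-- Generators and relations from a presentation. -/
theorem exists_of_presentation (P : SheafOfModules.Presentation (R := _root_.ModSite.ringSh (O.over U)) (ovr M U)) :
    ∃ (s : P.generators.I → _root_.ModSite.sect M U)
      (y : P.relations.I → _root_.ModSite.sect (FM O P.generators.I) U), GenI s ∧ RelI s y := by
  haveI : Epi P.generators.π := P.generators.epi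
  have w₀ : (P.relations.π ≫ kernel.ι P.generators.π) ≫ P.generators.π = 0 := by
    rw [Category.assoc, kernel.condition, comp_zero]
  let φ : FU O U P.generators.I ⟶ ovr M U := (eU O U P.generators.I).inv ≫ P.generators.π
  let f : FU O U P.relations.I ⟶ FU O U P.generators.I :=
    (eU O U P.relations.I).inv ≫ (P.relations.π ≫ kernel.ι P.generators.π) ≫ (eU O U P.generators.I).hom
  let s : P.generators.I → _root_.ModSite.sect M U := fun i => el (R := _root_.ModSite.ringSh O)
    ((_root_.ModSite.restr O U).map (SheafOfModules.ιFree i) ≫ φ)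
  let y : P.relations.I → _root_.ModSite.sect (FM O P.generators.I) U := fun k =>
    el (R := _root_.ModSite.ringSh O) ((_root_.ModSite.restr O U).map (SheafOfModules.ιFree k) ≫ f)
  have hφ : φ = toMap s := eq_toMap φ
  have hf : f = toMap y := eq_toMap f
  haveI : Epi (toMap s) := hφ ▸ (inferInstance : Epi φ)
  have w : toMap y ≫ toMap s = 0 := by
    rw [← hφ, ← hf]
    simp only [f, φ, Category.assoc, Iso.hom_inv_id_assoc, kernel.condition, comp_zero]
  refine ⟨s, y, (epi_toMap_iff s).1 inferInstance, relI_of_exact s y w ?_⟩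
  refine (ShortComplex.exact_iff_of_iso
    (S₁ := ShortComplex.mk (P.relations.π ≫ kernel.ι P.generators.π) P.generators.π w₀) ?_).1
    (ShortComplex.exact_of_g_is_cokernel _ P.isColimit)
  refine ShortComplex.isoMk (eU O U P.relations.I) (eU O U P.generators.I) (Iso.refl _) ?_ ?_
  · simp only [← hf, f]
    simp
  · simp only [← hφ, φ]
    simp

end Bridge

variable (M) in
/-- `M` has a presentation over `U`. -/
def PresAt (U : C) : Prop :=
  ∃ (ι κ : Type u) (s : ι → _root_.ModSite.sect M U) (y : κ → _root_.ModSite.sect (FM O ι) U),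
    GenI s ∧ RelI s y

variable (M) in
/-- `M` has a finite presentation over `U`. -/
def FinPresAt (U : C) : Prop :=
  ∃ (ι κ : Type u) (_ : Finite ι) (_ : Finite κ) (s : ι → _root_.ModSite.sect M U)
    (y : κ → _root_.ModSite.sect (FM O ι) U), GenI s ∧ RelI s y

variable (M) in
/-- `M` is free over `U`. -/
def LFAt (U : C) : Prop :=
  ∃ (ι : Type u) (s : ι → _root_.ModSite.sect M U),
    GenI s ∧ RelI s (fun k : PEmpty.{u + 1} => k.elim)

theorem PresAt.res (h : PresAt M U) (u : W ⟶ U) : PresAt M W := by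
  obtain ⟨ι, κ, s, y, hs, hy⟩ := h
  exact ⟨ι, κ, _, _, hs.res u, hy.res u⟩

theorem FinPresAt.res (h : FinPresAt M U) (u : W ⟶ U) : FinPresAt M W := by
  obtain ⟨ι, κ, hι, hκ, s, y, hs, hy⟩ := h
  exact ⟨ι, κ, hι, hκ, _, _, hs.res u, hy.res u⟩

theorem LFAt.res (h : LFAt M U) (u : W ⟶ U) : LFAt M W := by
  obtain ⟨ι, s, hs, hy⟩ := h
  refine ⟨ι, _, hs.res u, ?_⟩
  have := hy.res u
  convert this using 2
  rename_i k
  exact k.elim

theorem isQuasicoherent_iff :
    SheafOfModules.IsQuasicoherent (R := _root_.ModSite.ringSh O) M ↔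
      ∀ X : C, ∃ S ∈ J X, ∀ ⦃W : C⦄ (g : W ⟶ X), S g → PresAt M W := by
  constructor
  · rintro ⟨⟨q⟩⟩ X
    refine ⟨_, q.coversTop X, fun W g hg => ?_⟩
    obtain ⟨i, ⟨v⟩⟩ := (Sieve.mem_ofObjects_iff _ _).1 hg
    obtain ⟨s, y, hs, hy⟩ := exists_of_presentation (q.presentation i)
    exact PresAt.res (⟨_, _, s, y, hs, hy⟩ : PresAt M (q.X i)) v
  · intro h
    have hP : ∀ W : {W : C // PresAt M W}, Nonempty
        (SheafOfModules.Presentation (R := _root_.ModSite.ringSh (O.over W.1)) (ovr M W.1)) := fun W => by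
      obtain ⟨ι, κ, s, y, hs, hy⟩ := W.2
      exact ⟨presentation hs hy⟩
    let q : SheafOfModules.QuasicoherentData.{u} (R := _root_.ModSite.ringSh O) M :=
      SheafOfModules.QuasicoherentData.mk (C := C) (R := _root_.ModSite.ringSh O) (M := M)
        {W : C // PresAt M W} (fun W => W.1)
        (fun X => by
          obtain ⟨S, hS, hS'⟩ := h X
          exact J.superset_covering
            (fun W g hg => (Sieve.mem_ofObjects_iff _ _).2 ⟨⟨W, hS' g hg⟩, ⟨𝟙 W⟩⟩) hS)
        (fun W => (hP W).some)
    exact SheafOfModules.IsQuasicoherent.mk.{u, u, u} ⟨q⟩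

theorem isFinitePresentation_iff :
    SheafOfModules.IsFinitePresentation (R := _root_.ModSite.ringSh O) M ↔
      ∀ X : C, ∃ S ∈ J X, ∀ ⦃W : C⦄ (g : W ⟶ X), S g → FinPresAt M W := by
  constructor
  · rintro ⟨q, hq⟩ X
    refine ⟨_, q.coversTop X, fun W g hg => ?_⟩
    obtain ⟨i, ⟨v⟩⟩ := (Sieve.mem_ofObjects_iff _ _).1 hg
    obtain ⟨s, y, hs, hy⟩ := exists_of_presentation (q.presentation i)
    exact FinPresAt.res (⟨_, _, (hq.isFinite_presentation i).isFiniteType_generators.finite,
      (hq.isFinite_presentation i).isFiniteType_relations.finite, s, y, hs, hy⟩ :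
        FinPresAt M (q.X i)) v
  · intro h
    have hP : ∀ W : {W : C // FinPresAt M W},
        ∃ P : SheafOfModules.Presentation (R := _root_.ModSite.ringSh (O.over W.1)) (ovr M W.1),
          P.IsFinite := fun W => by
      obtain ⟨ι, κ, hι, hκ, s, y, hs, hy⟩ := W.2
      exact ⟨presentation hs hy,
        SheafOfModules.Presentation.IsFinite.mk
          (isFiniteType_generators := @SheafOfModules.GeneratingSections.IsFiniteType.mk _ _ _ _ _ _ _ _ hι)
          (isFiniteType_relations := @SheafOfModules.GeneratingSections.IsFiniteType.mk _ _ _ _ _ _ _ _ hκ)⟩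
    let q : SheafOfModules.QuasicoherentData.{u} (R := _root_.ModSite.ringSh O) M :=
      SheafOfModules.QuasicoherentData.mk (C := C) (R := _root_.ModSite.ringSh O) (M := M)
        {W : C // FinPresAt M W} (fun W => W.1)
        (fun X => by
          obtain ⟨S, hS, hS'⟩ := h X
          exact J.superset_covering
            (fun W g hg => (Sieve.mem_ofObjects_iff _ _).2 ⟨⟨W, hS' g hg⟩, ⟨𝟙 W⟩⟩) hS)
        (fun W => (hP W).choose)
    have hq : q.IsFinitePresentation :=
      SheafOfModules.QuasicoherentData.IsFinitePresentation.mk (q := q) fun W => (hP W).choose_spec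
    exact SheafOfModules.IsFinitePresentation.mk.{u, u, u} ⟨q, hq⟩

theorem isLocallyFree_iff :
    SheafOfModules.IsLocallyFree (R := _root_.ModSite.ringSh O) M ↔
      ∀ X : C, ∃ S ∈ J X, ∀ ⦃W : C⦄ (g : W ⟶ X), S g → LFAt M W := by
  constructor
  · rintro ⟨q, hq⟩ X
    refine ⟨_, q.coversTop X, fun W g hg => ?_⟩
    obtain ⟨i, ⟨v⟩⟩ := (Sieve.mem_ofObjects_iff _ _).1 hg
    let e : SheafOfModules.free (R := _root_.ModSite.ringSh (O.over (q.X i))) (q.generators i).I ≅
        ovr M (q.X i) := @asIso _ _ _ _ (q.generators i).π (hq.isIso i)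
    let φ := (eU O (q.X i) (q.generators i).I).inv ≫ e.hom
    let s : (q.generators i).I → _root_.ModSite.sect M (q.X i) := fun j =>
      el (R := _root_.ModSite.ringSh O) (M := ovr M (q.X i))
      ((_root_.ModSite.restr O (q.X i)).map (SheafOfModules.ιFree j) ≫ φ)
    have hφ : φ = toMap s := eq_toMap φ
    haveI : IsIso (toMap s) := hφ ▸ (inferInstance : IsIso φ)
    refine LFAt.res (⟨_, s, (epi_toMap_iff s).1 inferInstance, fun k => k.elim, fun V v a ha => ?_⟩ :
      LFAt M (q.X i)) v
    have h0 : lc (bas O V) a = 0 := injective_ap (toMap s) (Over.mk v)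
      (((ap_toMap_lc s (V := Over.mk v) a).trans ha).trans (map_zero _).symm)
    refine J.superset_covering (fun W g _ => ⟨0, ?_⟩) (J.top_mem V)
    rw [h0]; simp
  · intro h
    choose ι s hs hy using fun W : {W : C // LFAt M W} => W.2
    haveI : ∀ W, IsIso ((eU O W.1 (ι W)).hom ≫ toMap (s W)) := fun W => by
      haveI : Epi (toMap (s W)) := (epi_toMap_iff _).2 (hs W)
      haveI : Mono (toMap (s W)) := by
        refine mono_of_injective _ fun V x hx => ?_
        obtain ⟨S, hS, hS'⟩ := exists_lc (O := O) (ι := ι W) x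
        refine eq_of_locally (M := FM O (ι W)) (U := V.left) hS fun V' g hg => ?_
        obtain ⟨a, ha⟩ := hS' g hg
        refine Eq.trans ?_ (map_zero (rs (FM O (ι W)) g)).symm
        have h0 : lc (fun i => rs M (g ≫ V.hom) (s W i)) a = 0 := by
          refine (ap_toMap_lc (s W) (V := Over.mk (g ≫ V.hom)) a).symm.trans ?_
          refine (congrArg (ap (toMap (s W)) (U := Over.mk (g ≫ V.hom))) ha).symm.trans ?_
          refine (ap_rs (toMap (s W)) (Over.homMk g : Over.mk (g ≫ V.hom) ⟶ V) x).trans ?_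
          exact (congrArg _ hx).trans (map_zero _)
        have hz := (hy W).2 (g ≫ V.hom) a h0
        refine eq_of_locally (M := FM O (ι W)) hz fun V'' h hh => ?_
        obtain ⟨b, hb⟩ := hh
        refine Eq.trans ?_ (map_zero (rs (FM O (ι W)) h)).symm
        refine (congrArg (rs (FM O (ι W)) h) ha).trans ?_
        rw [hb, Subsingleton.elim b 0, map_zero]
      haveI := isIso_of_mono_of_epi (toMap (s W))
      infer_instance
    have hepi : ∀ W, Epi ((eU O W.1 (ι W)).hom ≫ toMap (s W)) := fun W => by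
      haveI := this W
      infer_instance
    let q : SheafOfModules.LocalGeneratorsData.{u} (R := _root_.ModSite.ringSh O) M :=
      SheafOfModules.LocalGeneratorsData.mk (C := C) (R := _root_.ModSite.ringSh O) (M := M)
        {W : C // LFAt M W} (fun W => W.1)
        (fun X => by
          obtain ⟨S, hS, hS'⟩ := h X
          exact J.superset_covering
            (fun W g hg => (Sieve.mem_ofObjects_iff _ _).2 ⟨⟨W, hS' g hg⟩, ⟨𝟙 W⟩⟩) hS)
        (fun W =>
          { I := ι W
            s := SheafOfModules.freeHomEquiv _ ((eU O W.1 (ι W)).hom ≫ toMap (s W))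
            epi := (Equiv.symm_apply_apply (SheafOfModules.freeHomEquiv _)
              ((eU O W.1 (ι W)).hom ≫ toMap (s W))).symm ▸ hepi W })
    have hq : q.IsLocallyFreeData := SheafOfModules.LocalGeneratorsData.IsLocallyFreeData.mk (q := q)
      fun W => by
        show IsIso ((SheafOfModules.freeHomEquiv (R := _root_.ModSite.ringSh (O.over W.1))
          (ovr M W.1)).symm (SheafOfModules.freeHomEquiv (ovr M W.1) ((eU O W.1 (ι W)).hom ≫ toMap (s W))))
        rw [Equiv.symm_apply_apply]
        exact this W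
    exact SheafOfModules.IsLocallyFree.mk.{u, u, u} ⟨q, hq⟩

end Groth.Agent.Lib.ModSiteLoc.Free
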