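import Groth.Agent.Lib.ModSiteLoc.PullFree

/-!
# Modules locally generated by sections, in terms of sections
-/

set_option autoImplicit false
set_option linter.style.haveILetI false

universe u

open CategoryTheory Limits Opposite

namespace Groth.Agent.Lib.ModSiteLoc.LocGen

open Groth.Agent.Lib.ModSiteLoc.Basic Groth.Agent.Lib.ModSiteLoc.Free
  Groth.Agent.Lib.FlatCrit.Factor

variable {C D : Type u} [SmallCategory C] [SmallCategory D] {J : GrothendieckTopology C}
  {K : GrothendieckTopology D} {O_C : Sheaf J CommRingCat.{u}} {O_D : Sheaf K CommRingCat.{u}}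

/-- `M` is generated by a family of sections over `U`. -/
def GenAt {O : Sheaf J CommRingCat.{u}} (M : _root_.ModSite.Mod O) (U : C) : Prop :=
  ∃ (ι : Type u) (s : ι → _root_.ModSite.sect M U), GenI s

theorem nonempty_iff {M : _root_.ModSite.Mod O_C} :
    Nonempty (SheafOfModules.LocalGeneratorsData.{u} (R := _root_.ModSite.ringSh O_C) M) ↔
      ∀ X : C, ∃ S ∈ J X, ∀ ⦃W : C⦄ (g : W ⟶ X), S g → GenAt M W := by
  constructor
  · rintro ⟨q⟩ X
    refine ⟨_, q.coversTop X, fun W g hg => ?_⟩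
    obtain ⟨i, ⟨v⟩⟩ := (Sieve.mem_ofObjects_iff _ _).1 hg
    let φ : FU O_C (q.X i) (q.generators i).I ⟶ ovr M (q.X i) :=
      (eU O_C (q.X i) (q.generators i).I).inv ≫ (q.generators i).π
    let s : (q.generators i).I → _root_.ModSite.sect M (q.X i) := fun j =>
      el (R := _root_.ModSite.ringSh O_C) (M := ovr M (q.X i))
      ((_root_.ModSite.restr O_C (q.X i)).map (SheafOfModules.ιFree j) ≫ φ)
    have hφ : φ = toMap s := eq_toMap φ
    haveI : Epi (q.generators i).π := (q.generators i).epi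
    haveI : Epi (toMap s) := hφ ▸ (epi_comp' (IsIso.epi_of_iso _) (q.generators i).epi : Epi φ)
    exact ⟨_, _, ((epi_toMap_iff s).1 inferInstance).res v⟩
  · intro h
    choose ι s hs using fun W : {W : C // GenAt M W} => W.2
    refine ⟨{ I := {W : C // GenAt M W}, X := fun W => W.1, coversTop := fun X => ?_,
              generators := fun W => ?_ }⟩
    · obtain ⟨S, hS, hS'⟩ := h X
      exact J.superset_covering
        (fun W g hg => (Sieve.mem_ofObjects_iff _ _).2 ⟨⟨W, hS' g hg⟩, ⟨𝟙 W⟩⟩) hS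
    · refine { I := ι W, s := (ovr M W.1).freeHomEquiv ((eU O_C W.1 (ι W)).hom ≫ toMap (s W)),
               epi := ?_ }
      haveI : Epi (toMap (s W)) := (epi_toMap_iff _).2 (hs W)
      erw [Equiv.symm_apply_apply]
      exact epi_comp' (IsIso.epi_of_iso _) ‹_›

theorem nonempty_pull (f : _root_.ModSite.RMor O_C O_D) {G : _root_.ModSite.Mod O_D}
    (hG : Nonempty (SheafOfModules.LocalGeneratorsData.{u} (R := _root_.ModSite.ringSh O_D) G)) :
    Nonempty (SheafOfModules.LocalGeneratorsData.{u} (R := _root_.ModSite.ringSh O_C) (f.pull.obj G)) :=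
  nonempty_iff.2 (PullFree.pull_local f (fun _ _ u ⟨_, _, h⟩ => ⟨_, _, h.res u⟩)
    (fun ψ ⟨_, _, hs⟩ => ⟨_, _, PullFree.genI_pull f ψ hs⟩) (nonempty_iff.1 hG))

end Groth.Agent.Lib.ModSiteLoc.LocGen
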