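import Groth.Agent.Lib.ModSiteLoc.Bridge

/-!
# Extensions, kernels and cokernels of modules of finite type and of finite presentation
-/

set_option autoImplicit false
set_option linter.style.haveILetI false

universe u

open CategoryTheory Limits Opposite Matrix

namespace Groth.Agent.Lib.ModSiteLoc.Ops

open Groth.Agent.Lib.ModSiteLoc.Basic

variable {C : Type u} [SmallCategory C] {J : GrothendieckTopology C} {O : Sheaf J CommRingCat.{u}}
  {M N : _root_.ModSite.Mod O} {U W : C} {ι κ : Type*} [Fintype ι] [Fintype κ]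

/-- The arrows along which `t` is a combination of the given sections. -/
def genSieve (s : ι → _root_.ModSite.sect M U) (v : W ⟶ U) (t : _root_.ModSite.sect M W) :
    Sieve W where
  arrows W' g := ∃ a : ι → O.obj.obj (op W'), rs M g t = ∑ i, a i • rs M (g ≫ v) (s i)
  downward_closed := fun {W' W''} g hg h => by
    obtain ⟨a, ha⟩ := hg
    refine ⟨fun i => rr O h (a i), ?_⟩
    rw [← rs_rs g h t, ha, rs_sum]
    simp only [rs_rs, Category.assoc]

theorem genSieve_mem {s : ι → _root_.ModSite.sect M U} (h : Gen M s) (v : W ⟶ U)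
    (t : _root_.ModSite.sect M W) : genSieve s v t ∈ J W := by
  obtain ⟨S, hS, hS'⟩ := h v t
  exact J.superset_covering (fun W' g hg => hS' g hg) hS

/-- Finitely many sections are locally combinations of generators. -/
theorem exists_coeffs {s : ι → _root_.ModSite.sect M U} (h : Gen M s) (v : W ⟶ U) {α : Type*}
    [Finite α] (t : α → _root_.ModSite.sect M W) :
    ∃ S ∈ J W, ∀ ⦃W' : C⦄ (g : W' ⟶ W), S g → ∃ A : α → ι → O.obj.obj (op W'),
      ∀ j, rs M g (t j) = ∑ i, A j i • rs M (g ≫ v) (s i) := by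
  obtain ⟨S, hS, hS'⟩ := exists_forall (p := fun j W' g => genSieve s v (t j) g)
    (fun j _ _ g h hg => (genSieve s v (t j)).downward_closed hg h)
    (fun j => ⟨_, genSieve_mem h v (t j), fun _ _ hg => hg⟩)
  refine ⟨S, hS, fun W' g hg => ?_⟩
  choose A hA using hS' g hg
  exact ⟨A, hA⟩

/-- The cover on which two properties hold. -/
theorem exists_inf {p q : C → Prop} (hp : ∀ X : C, ∃ S ∈ J X, ∀ ⦃W : C⦄ (g : W ⟶ X), S g → p W)
    (hq : ∀ X : C, ∃ S ∈ J X, ∀ ⦃W : C⦄ (g : W ⟶ X), S g → q W) (X : C) :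
    ∃ S ∈ J X, ∀ ⦃W : C⦄ (g : W ⟶ X), S g → p W ∧ q W := by
  obtain ⟨S, hS, hS'⟩ := hp X
  obtain ⟨T, hT, hT'⟩ := hq X
  exact ⟨S ⊓ T, J.intersection_covering hS hT, fun W g hg => ⟨hS' g hg.1, hT' g hg.2⟩⟩

/-- A local property which holds on a cover of every member of a cover holds on a cover. -/
theorem exists_trans {p : C → Prop} (hp : ∀ ⦃W W' : C⦄, (W' ⟶ W) → p W → p W')
    {X : C} {S : Sieve X} (hS : S ∈ J X)
    (h : ∀ ⦃W : C⦄ (g : W ⟶ X), S g → ∃ T ∈ J W, ∀ ⦃W' : C⦄ (g' : W' ⟶ W), T g' → p W') :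
    ∃ S' ∈ J X, ∀ ⦃W : C⦄ (g : W ⟶ X), S' g → p W := by
  refine ⟨locus p hp X, J.transitive hS _ fun W g hg => ?_, fun W g hg => hg⟩
  obtain ⟨T, hT, hT'⟩ := h g hg
  exact J.superset_covering (fun W' g' hg' => hT' g' hg') hT

/-- An extension of modules of finite type is of finite type. -/
theorem isFiniteType_extension {P : _root_.ModSite.Mod O} (f : M ⟶ N) (g : N ⟶ P)
    (w : f ≫ g = 0) (hfg : (ShortComplex.mk f g w).Exact) [Epi g]
    [SheafOfModules.IsFiniteType (R := _root_.ModSite.ringSh O) M]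
    [SheafOfModules.IsFiniteType (R := _root_.ModSite.ringSh O) P] :
    SheafOfModules.IsFiniteType (R := _root_.ModSite.ringSh O) N := by
  rw [Bridge.isFiniteType_iff]
  intro X
  obtain ⟨S, hS, hS'⟩ := exists_inf (p := FTAt M) (q := FTAt P)
    (Bridge.isFiniteType_iff.1 inferInstance) (Bridge.isFiniteType_iff.1 inferInstance) X
  refine exists_trans (fun _ _ v h => FTAt.res h v) hS fun W u hu => ?_
  obtain ⟨⟨m, a, ha⟩, n, c, hc⟩ := hS' u hu
  obtain ⟨T, hT, hT'⟩ := exists_lift g c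
  refine ⟨T, hT, fun V v hv => ?_⟩
  obtain ⟨b, hb⟩ := hT' v hv
  refine FTAt.mk' (s := Sum.elim (fun i => ap f (rs M v (a i))) b) fun V' v' t => ?_
  refine ⟨genSieve (Sum.elim (fun i => ap f (rs M v (a i))) b) v' t,
    J.transitive (genSieve_mem (hc.res v) v' (ap g t)) _ fun V'' k hk => ?_, fun _ _ h => h⟩
  obtain ⟨γ, hγ⟩ := hk
  let y := rs N k t - ∑ i, γ i • rs N (k ≫ v') (b i)
  have hy : ap g y = 0 := by
    simp only [y, map_sub, ap_sum, ap_rs, hb, hγ, sub_self]
  obtain ⟨R, hR, hR'⟩ := exists_lift_of_exact f g w hfg y hy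
  refine J.transitive hR _ fun V₃ l hl => ?_
  obtain ⟨z, hz⟩ := hR' l hl
  refine J.superset_covering ?_ (genSieve_mem (ha.res v) (l ≫ k ≫ v') z)
  rintro V₄ o ⟨β, hβ⟩
  refine ⟨Sum.elim β fun i => rr O (o ≫ l) (γ i), ?_⟩
  have h1 := congrArg (rs N o) hz
  rw [← ap_rs, hβ, rs_rs, map_sub, rs_sum, rs_rs, ap_sum] at h1
  simp only [Fintype.sum_sum_type, Sum.elim_inl, Sum.elim_inr]
  simp only [ap_rs, rs_rs, Category.assoc] at h1 ⊢
  rw [h1]
  abel

/-- The kernel of an epimorphism from a module of finite type onto one of finite presentation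
is of finite type. -/
theorem isFiniteType_kernel (θ : M ⟶ N) [Epi θ]
    [SheafOfModules.IsFiniteType (R := _root_.ModSite.ringSh O) M]
    [SheafOfModules.IsFinitePresentation (R := _root_.ModSite.ringSh O) N] :
    SheafOfModules.IsFiniteType (R := _root_.ModSite.ringSh O) (kernel θ) := by
  rw [Bridge.isFiniteType_iff]
  intro X
  obtain ⟨S, hS, hS'⟩ := exists_inf (p := FTAt M) (q := FPAt N)
    (Bridge.isFiniteType_iff.1 inferInstance) (Bridge.isFinitePresentation_iff.1 inferInstance) X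
  refine exists_trans (fun _ _ v h => FTAt.res h v) hS fun W u hu => ?_
  obtain ⟨⟨m, h, hh⟩, n, l, s, r, hs, hr⟩ := hS' u hu
  obtain ⟨T, hT, hT'⟩ := exists_lift θ s
  obtain ⟨T₂, hT₂, hT₂'⟩ := exists_coeffs hs (𝟙 W) fun k => ap θ (h k)
  refine ⟨T ⊓ T₂, J.intersection_covering hT hT₂, fun V v hv => ?_⟩
  obtain ⟨γ, hγ⟩ := hT' v hv.1
  obtain ⟨A, hA⟩ := hT₂' v hv.2
  simp only [Category.comp_id] at hA
  have hker : ∀ q : Fin m ⊕ Fin l, ap θ (Sum.elim
      (fun k => rs M v (h k) - ∑ i, A k i • γ i)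
      (fun j => ∑ i, rr O v (r j i) • γ i) q) = 0 := by
    rintro (k | j)
    · simp only [Sum.elim_inl, map_sub, ap_sum, ap_rs, hγ, hA, sub_self]
    · simp only [Sum.elim_inr, ap_sum, hγ]
      rw [← rs_sum, hr.1 j, map_zero]
  choose z hz using fun q => exists_kernel_section θ _ (hker q)
  refine FTAt.mk' (s := z) fun V' v' t => ?_
  refine ⟨genSieve z v' t,
    J.transitive (genSieve_mem (hh.res v) v' (ap (kernel.ι θ) t)) _ fun V'' k hk => ?_,
    fun _ _ h => h⟩
  obtain ⟨c, hc⟩ := hk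
  have h0 : ∑ i, (∑ x, c x * rr O (k ≫ v') (A x i)) • rs N ((k ≫ v') ≫ v) (s i) = 0 := by
    have e := congrArg (ap θ) hc
    rw [← ap_rs, show ap θ (ap (kernel.ι θ) (rs (kernel θ) k t)) = 0 from
      congrArg (fun q : kernel θ ⟶ N => ap q (rs (kernel θ) k t)) (kernel.condition θ)] at e
    refine Eq.trans ?_ e.symm
    simp only [Finset.sum_smul, mul_smul, ap_sum, ap_rs]
    rw [Finset.sum_comm]
    refine Finset.sum_congr rfl fun x _ => ?_
    rw [← Finset.smul_sum, hA, rs_sum]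
    simp only [rs_rs]
  obtain ⟨R, hR, hR'⟩ := hr.2 _ _ h0
  refine J.superset_covering (fun V₃ o ho => ?_) hR
  obtain ⟨b, hb⟩ := hR' o ho
  refine ⟨Sum.elim (fun x => rr O o (c x)) b, injective_ap (kernel.ι θ) V₃ ?_⟩
  rw [ap_sum, ap_rs, ← rs_rs k o, hc, rs_sum]
  simp only [ap_rs, hz, Fintype.sum_sum_type, Sum.elim_inl, Sum.elim_inr, map_sub, rs_sum,
    smul_sub, Finset.sum_sub_distrib, rs_rs, Category.assoc]
  have key : (∑ x, rr O o (c x) • ∑ i, rr O (o ≫ k ≫ v') (A x i) • rs M (o ≫ k ≫ v') (γ i)) =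
      ∑ j, b j • ∑ i, rr O (o ≫ k ≫ v') (rr O v (r j i)) • rs M (o ≫ k ≫ v') (γ i) := by
    simp only [Finset.smul_sum, smul_smul]
    rw [Finset.sum_comm]
    conv_rhs => rw [Finset.sum_comm]
    refine Finset.sum_congr rfl fun i _ => ?_
    simp only [← Finset.sum_smul]
    congr 1
    have := hb i
    simp only [map_sum, map_mul, rr_rr, Category.assoc] at this
    simp only [rr_rr, Category.assoc]
    exact this
  rw [key]
  abel

/-- The cokernel of a map from a module of finite type to one of finite presentation is of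
finite presentation. -/
theorem isFinitePresentation_cokernel (φ : M ⟶ N)
    [SheafOfModules.IsFiniteType (R := _root_.ModSite.ringSh O) M]
    [SheafOfModules.IsFinitePresentation (R := _root_.ModSite.ringSh O) N] :
    SheafOfModules.IsFinitePresentation (R := _root_.ModSite.ringSh O) (cokernel φ) := by
  rw [Bridge.isFinitePresentation_iff]
  intro X
  obtain ⟨S, hS, hS'⟩ := exists_inf (p := FTAt M) (q := FPAt N)
    (Bridge.isFiniteType_iff.1 inferInstance) (Bridge.isFinitePresentation_iff.1 inferInstance) X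
  refine exists_trans (fun _ _ v h => FPAt.res h v) hS fun W u hu => ?_
  obtain ⟨⟨m, h, hh⟩, n, l, s, r, hs, hr⟩ := hS' u hu
  obtain ⟨T, hT, hT'⟩ := exists_coeffs hs (𝟙 W) fun k => ap φ (h k)
  refine ⟨T, hT, fun V v hv => ?_⟩
  obtain ⟨A, hA⟩ := hT' v hv
  simp only [Category.comp_id] at hA
  have hp : ∀ {V' : C} (x : _root_.ModSite.sect M V'), ap (cokernel.π φ) (ap φ x) = 0 := fun x =>
    congrArg (fun q : M ⟶ cokernel φ => ap q x) (cokernel.condition φ)
  refine FPAt.mk' ((hs.res v).map (cokernel.π φ))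
    (r := Sum.elim A fun j i => rr O v (r j i)) ⟨?_, fun V' v' α hα => ?_⟩
  · rintro (k | j)
    · refine (ap_sum _ _ _).symm.trans ?_
      simp only [Sum.elim_inl, ← hA, ← ap_rs, hp]
    · refine (ap_sum _ _ _).symm.trans ?_
      simp only [Sum.elim_inr, ← rs_sum, hr.1, map_zero]
  · let x := ∑ i, α i • rs N (v' ≫ v) (s i)
    have hx : ap (cokernel.π φ) x = 0 := by
      refine Eq.trans ?_ hα
      simp only [x, ap_sum, ap_rs, rs_rs]
    obtain ⟨R, hR, hR'⟩ := exists_lift_of_exact φ (cokernel.π φ) (cokernel.condition φ)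
      (ShortComplex.exact_of_g_is_cokernel _ (cokernelIsCokernel φ)) x hx
    let Sv : Sieve V' :=
      { arrows := fun V'' o => ∃ b : Fin m ⊕ Fin l → O.obj.obj (op V''), ∀ i, rr O o (α i) =
          ∑ q, b q * rr O (o ≫ v') (Sum.elim A (fun j i => rr O v (r j i)) q i)
        downward_closed := fun {V₁ V₂} o hb p => by
          obtain ⟨b, hb⟩ := hb
          refine ⟨fun q => rr O p (b q), fun i => ?_⟩
          rw [← rr_rr o p, hb, map_sum]
          simp only [map_mul, rr_rr, Category.assoc] }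
    refine ⟨Sv, J.transitive hR _ fun V'' k hk => ?_, fun _ _ h => h⟩
    obtain ⟨y, hy⟩ := hR' k hk
    refine J.transitive (genSieve_mem (hh.res v) (k ≫ v') y) _ fun V₃ o ho => ?_
    obtain ⟨c, hc⟩ := ho
    have h0 : ∑ i, (rr O (o ≫ k) (α i) - ∑ q, c q * rr O (o ≫ k ≫ v') (A q i)) •
        rs N ((o ≫ k ≫ v') ≫ v) (s i) = 0 := by
      have e := congrArg (ap φ) hc
      have hA₃ : ∀ q, rs N (o ≫ k ≫ v' ≫ v) (ap φ (h q)) =
          ∑ i, rr O (o ≫ k ≫ v') (A q i) • rs N (o ≫ k ≫ v' ≫ v) (s i) := fun q => by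
        have := congrArg (rs N (o ≫ k ≫ v')) (hA q)
        simpa only [rs_rs, rs_sum, Category.assoc] using this
      simp only [ap_sum, ap_rs, hy, rs_rs, rs_sum, rr_rr, x, Category.assoc, hA₃, Finset.smul_sum,
        smul_smul] at e
      rw [Finset.sum_comm] at e
      simp only [sub_smul, Finset.sum_sub_distrib, Finset.sum_smul, Category.assoc, e, sub_self]
    obtain ⟨T₂, hT₂, hT₂'⟩ := hr.2 _ _ h0
    refine J.superset_covering (fun V₄ p hp' => ?_) hT₂
    obtain ⟨b, hb⟩ := hT₂' p hp'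
    refine ⟨Sum.elim (fun q => rr O p (c q)) b, fun i => ?_⟩
    have := hb i
    simp only [map_sub, map_sum, map_mul, rr_rr, Category.assoc, sub_eq_iff_eq_add] at this
    simp only [Fintype.sum_sum_type, Sum.elim_inl, Sum.elim_inr, rr_rr, Category.assoc]
    rw [this, add_comm]

/-- A surjection of modules with independent generators of the same number is injective. -/
theorem mono_of_epi_of_free (φ : M ⟶ N) [Epi φ] (r : ℕ)
    (hM : ∀ X : C, ∃ S ∈ J X, ∀ ⦃W : C⦄ (g : W ⟶ X), S g → ∃ s : Fin r → _root_.ModSite.sect M W,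
      Gen M s)
    (hN : ∀ X : C, ∃ S ∈ J X, ∀ ⦃W : C⦄ (g : W ⟶ X), S g → ∃ s : Fin r → _root_.ModSite.sect N W,
      Gen N s ∧ ∀ ⦃W' : C⦄ (v : W' ⟶ W) (a : Fin r → O.obj.obj (op W')),
        ∑ i, a i • rs N v (s i) = 0 → a = 0) :
    Mono φ := by
  classical
  refine mono_of_injective φ fun X x hx => ?_
  obtain ⟨S, hS, hS'⟩ := exists_inf hM hN X
  refine eq_of_locally hS fun W u hu => ?_
  rw [map_zero]
  obtain ⟨⟨s, hs⟩, s', hs', hi⟩ := hS' u hu
  obtain ⟨T₁, hT₁, h₁⟩ := exists_coeffs hs' (𝟙 W) fun i => ap φ (s i)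
  obtain ⟨T₂, hT₂, h₂⟩ := exists_coeffs (hs.map φ) (𝟙 W) s'
  obtain ⟨T₃, hT₃, h₃⟩ := exists_coeffs hs (𝟙 W) fun _ : Unit => rs M u x
  refine eq_of_locally (J.intersection_covering hT₁ (J.intersection_covering hT₂ hT₃))
    fun V v hv => ?_
  obtain ⟨A, hA⟩ := h₁ v hv.1
  obtain ⟨B, hB⟩ := h₂ v hv.2.1
  obtain ⟨α, hα⟩ := h₃ v hv.2.2
  simp only [Category.comp_id] at hA hB hα
  have hBA : Matrix.of B * Matrix.of A = 1 := by
    ext j l
    have h0 : ∑ l, ((∑ i, B j i * A i l) - (if j = l then (1 : O.obj.obj (op V)) else 0)) •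
        rs N v (s' l) = 0 := by
      simp only [sub_smul, Finset.sum_sub_distrib, Finset.sum_smul, mul_smul, ite_smul, one_smul,
        zero_smul, Finset.sum_ite_eq, Finset.mem_univ, if_true]
      rw [Finset.sum_comm, sub_eq_zero]
      refine (Finset.sum_congr rfl fun i _ => ?_).trans (hB j).symm
      rw [← Finset.smul_sum, ← hA]
    have := congrFun (hi v _ h0) l
    simp only [Pi.zero_apply, sub_eq_zero] at this
    simpa [Matrix.mul_apply, Matrix.one_apply] using this
  have hAB : Matrix.of A * Matrix.of B = 1 := mul_eq_one_comm.1 hBA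
  have h0 : Matrix.vecMul (α ()) (Matrix.of A) = 0 := by
    refine hi v _ ?_
    have e := congrArg (ap φ) (hα ())
    simp only [ap_rs, hx, map_zero, ap_sum] at e
    refine Eq.trans ?_ e.symm
    simp only [Matrix.vecMul, dotProduct, Matrix.of_apply, Finset.sum_smul, mul_smul]
    rw [Finset.sum_comm]
    exact Finset.sum_congr rfl fun i _ => by rw [← Finset.smul_sum, ← hA]
  have hz : α () = 0 := by
    rw [← Matrix.vecMul_one (α ()), ← hAB, ← Matrix.vecMul_vecMul, h0, Matrix.zero_vecMul]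
  rw [map_zero, hα (), hz]
  simp

/-- Sections of which some given generators are combinations generate. -/
theorem gen_of_coeffs {t : κ → _root_.ModSite.sect M U} {s : ι → _root_.ModSite.sect M U}
    (hs : Gen M s) (C' : ι → κ → O.obj.obj (op U)) (hC : ∀ i, s i = ∑ j, C' i j • t j) :
    Gen M t := by
  intro W v x
  obtain ⟨S, hS, hS'⟩ := hs v x
  refine ⟨S, hS, fun W' g hg => ?_⟩
  obtain ⟨a, ha⟩ := hS' g hg
  refine ⟨fun j => ∑ i, a i * rr O (g ≫ v) (C' i j), ha.trans ?_⟩
  simp only [hC, rs_sum, Finset.smul_sum, smul_smul, Finset.sum_smul]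
  exact Finset.sum_comm

/-- Finitely many generators of the relations after a change of generators. -/
theorem rels_change {m : Type*} [Fintype m] [DecidableEq κ] {t : κ → _root_.ModSite.sect M U}
    {s : ι → _root_.ModSite.sect M U} {R : m → ι → O.obj.obj (op U)} (hR : Rels M s R)
    (C' : ι → κ → O.obj.obj (op U)) (hC : ∀ i, s i = ∑ j, C' i j • t j)
    (D : κ → ι → O.obj.obj (op U)) (hD : ∀ j, t j = ∑ i, D j i • s i) :
    Rels M t (Sum.elim
      (fun j j' => (if j = j' then 1 else 0) - ∑ i, D j i * C' i j')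
      fun k j' => ∑ i, R k i * C' i j') := by
  refine ⟨?_, fun W v a ha => ?_⟩
  · rintro (j | k)
    · have h0 : ∑ j', (∑ i, D j i * C' i j') • t j' = t j := by
        simp only [Finset.sum_smul, mul_smul]
        rw [Finset.sum_comm]
        simp only [← Finset.smul_sum, ← hC, ← hD]
      simp only [Sum.elim_inl, sub_smul, Finset.sum_sub_distrib, ite_smul, one_smul, zero_smul,
        Finset.sum_ite_eq, Finset.mem_univ, if_true]
      rw [h0, sub_self]
    · simp only [Sum.elim_inr, Finset.sum_smul, mul_smul]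
      rw [Finset.sum_comm]
      simp only [← Finset.smul_sum, ← hC, hR.1]
  · have h0 : ∑ i, (∑ j, a j * rr O v (D j i)) • rs M v (s i) = 0 := by
      simp only [Finset.sum_smul, mul_smul]
      rw [Finset.sum_comm]
      refine Eq.trans (Finset.sum_congr rfl fun j _ => ?_) ha
      rw [← Finset.smul_sum, ← rs_sum, ← hD]
    obtain ⟨S, hS, hS'⟩ := hR.2 v _ h0
    refine ⟨S, hS, fun W' g hg => ?_⟩
    obtain ⟨b, hb⟩ := hS' g hg
    refine ⟨Sum.elim (fun j => rr O g (a j)) b, fun j' => ?_⟩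
    have e : ∑ k, b k * rr O (g ≫ v) (∑ i, R k i * C' i j') =
        ∑ j, rr O g (a j) * rr O (g ≫ v) (∑ i, D j i * C' i j') := by
      simp only [map_sum, map_mul, Finset.mul_sum]
      rw [Finset.sum_comm]
      conv_rhs => rw [Finset.sum_comm]
      refine Finset.sum_congr rfl fun i _ => ?_
      simp only [← mul_assoc, ← Finset.sum_mul]
      congr 1
      rw [← hb i, map_sum]
      simp only [map_mul, rr_rr]
    simp only [Fintype.sum_sum_type, Sum.elim_inl, Sum.elim_inr, e, map_sub, mul_sub,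
      Finset.sum_sub_distrib, sub_add_cancel, apply_ite (rr O (g ≫ v)), map_one, map_zero,
      mul_ite, mul_one, mul_zero, Finset.sum_ite_eq', Finset.mem_univ, if_true]

end Groth.Agent.Lib.ModSiteLoc.Ops
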