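import Groth.Agent.Lib.ModSiteLoc.Retract
import Mathlib.Algebra.Category.ModuleCat.Sheaf.LocallyFree
import Mathlib.LinearAlgebra.Dimension.StrongRankCondition
import Mathlib.SetTheory.Cardinal.Finite
import Mathlib.Topology.LocallyConstant.Basic

/-!
# The rank of a locally free module
-/

set_option autoImplicit false
set_option linter.style.haveILetI false

universe u

open CategoryTheory Limits Opposite TopologicalSpace

namespace Groth.Agent.Lib.ModSiteLoc.Rank

open Groth.Agent.Lib.ModSiteLoc.Basic Groth.Agent.Lib.ModSiteLoc.Top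

variable {X : TopCat.{u}} {O : CategoryTheory.Sheaf (Opens.grothendieckTopology X) CommRingCat.{u}}
  {F : _root_.ModSite.Mod O} {x : X} {U : Opens X}

/-- A nontrivial presheaf stalk gives a nontrivial stalk at the point of the site. -/
theorem nontrivial_stalkRing (h : Nontrivial ↥((TopCat.Presheaf.stalk (Retract.psh O) x : CommRingCat.{u}))) :
    Nontrivial (_root_.ModSite.stalkRing (pt x) O) := by
  by_contra hn
  rw [not_nontrivial_iff_subsingleton] at hn
  obtain ⟨V, hV, hxV, h1⟩ := exists_rr_eq (O := O) (U := ⊤) (Opens.mem_top x)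
    (fun _ : Unit => (1 : O.obj.obj (op ⊤))) (fun _ => 0) fun _ => Subsingleton.elim _ _
  have h2 := congrArg (Retract.gs O hxV) (h1 ())
  simp only [map_one, map_zero] at h2
  exact one_ne_zero h2

/-- Sections without relations have independent germs. -/
theorem linearIndependent_gm {n : Type*} [Fintype n] (hxU : x ∈ U) (s : n → _root_.ModSite.sect F U)
    (hi : ∀ ⦃W : Opens X⦄ (v : W ⟶ U) (a : n → O.obj.obj (op W)),
      ∑ i, a i • rs F v (s i) = 0 → a = 0) :
    LinearIndependent (_root_.ModSite.stalkRing (pt x) O) fun i => gm F hxU (s i) := by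
  rw [Fintype.linearIndependent_iff]
  intro c hc
  obtain ⟨V, hVU, hV, a, ha⟩ := exists_gr (O := O) hxU c
  obtain ⟨W, hWV, hW, he⟩ := exists_rs_eq hV (fun _ : Unit => ∑ i, a i • rs F (homOfLE hVU) (s i))
    (fun _ => 0) fun _ => by
      rw [gm_sum, map_zero, ← hc]
      exact Finset.sum_congr rfl fun i _ => by rw [ha i, gm_rs _ hV hxU]
  have h0 := he ()
  simp only [rs_sum, rs_rs, map_zero] at h0
  intro i
  rw [← ha i, ← gr_rr (homOfLE hWV) hW hV]
  have := congrFun (hi _ _ h0) i
  simp only [Pi.zero_apply] at this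
  rw [this, map_zero]

/-- The germs of generators span the stalk. -/
theorem span_gm_eq_top {ι : Type*} [Fintype ι] (hxU : x ∈ U) {s : ι → _root_.ModSite.sect F U}
    (hs : Gen F s) :
    Submodule.span (_root_.ModSite.stalkRing (pt x) O) (Set.range fun i => gm F hxU (s i)) = ⊤ := by
  refine eq_top_iff.2 fun m _ => ?_
  obtain ⟨V, hVU, hV, t, ht⟩ := exists_gm hxU (fun _ : Unit => m)
  obtain ⟨S, hS, hS'⟩ := hs (homOfLE hVU) (t ())
  obtain ⟨W, hWV, hW, hSW⟩ := exists_nhd hS hV
  obtain ⟨a, ha⟩ := hS' _ hSW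
  refine (Submodule.mem_span_range_iff_exists_fun _).2 ⟨fun i => gr O hW (a i), ?_⟩
  rw [← ht (), ← gm_rs (homOfLE hWV) hW hV, ha, gm_sum]
  exact Finset.sum_congr rfl fun i _ => by rw [gm_rs _ hW hxU]

variable (F x) in
/-- There are `n` independent elements in the stalk. -/
def Has (n : ℕ) : Prop :=
  ∃ v : Fin n → _root_.ModSite.stalkAb (pt x) F, LinearIndependent (_root_.ModSite.stalkRing (pt x) O) v

theorem has_iff [Nontrivial (_root_.ModSite.stalkRing (pt x) O)] (hxU : x ∈ U) {I : Type u}
    (e : (_root_.ModSite.restr O U).obj F ≅ SheafOfModules.free I) (n : ℕ) :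
    Has F x n ↔ (n : ℕ∞) ≤ ENat.card I := by
  classical
  constructor
  · rintro ⟨v, hv⟩
    cases finite_or_infinite I
    · haveI := Fintype.ofFinite I
      rw [ENat.card_eq_coe_fintype_card, Nat.cast_le]
      obtain ⟨hs, -⟩ := Bridge.gen_rels_of_isIso e
      have hsp := span_gm_eq_top hxU hs
      have h := linearIndependent_le_span_aux' v hv (Set.range fun i => gm F hxU (Bridge.vals e.inv i))
        (by rw [hsp]; exact Set.subset_univ _)
      rw [Fintype.card_fin] at h
      exact h.trans (Fintype.card_range_le _)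
    · simp [ENat.card_eq_top_of_infinite]
  · intro hn
    obtain ⟨f⟩ : Nonempty (ULift.{u} (Fin n) ↪ I) := by
      cases finite_or_infinite I
      · haveI := Fintype.ofFinite I
        rw [ENat.card_eq_coe_fintype_card, Nat.cast_le] at hn
        exact Function.Embedding.nonempty_of_card_le (by simpa using hn)
      · exact ⟨Equiv.ulift.toEmbedding.trans (Fin.valEmbedding.trans (Infinite.natEmbedding I))⟩
    let j : Bridge.Fr O U (ULift.{u} (Fin n)) ⟶ SheafOfModules.free I :=
      SheafOfModules.freeMap f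
    let r : SheafOfModules.free (R := _root_.ModSite.ringSh (O.over U)) I ⟶
        Bridge.Fr O U (ULift.{u} (Fin n)) :=
      Sigma.desc fun i => if h : ∃ k, f k = i then SheafOfModules.ιFree h.choose else 0
    have hjr : j ≫ r = 𝟙 _ := by
      refine Cofan.IsColimit.hom_ext (SheafOfModules.isColimitFreeCofan _) _ _ fun k => ?_
      change SheafOfModules.ιFree k ≫ j ≫ r = SheafOfModules.ιFree k ≫ 𝟙 _
      have e1 : ∃ k', f k' = f k := ⟨k, rfl⟩
      have e2 : SheafOfModules.ιFree (f k) ≫ r = SheafOfModules.ιFree e1.choose :=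
        (Sigma.ι_desc _ _).trans (dif_pos e1)
      rw [← Category.assoc, SheafOfModules.ιFree_freeMap, e2, f.injective e1.choose_spec,
        Category.comp_id]
    haveI : Mono j := SplitMono.mono ⟨r, hjr⟩
    haveI : Mono (j ≫ e.inv) := inferInstance
    let φ : Bridge.Fr O U (ULift.{u} (Fin n)) ⟶ Bridge.ov F U := j ≫ e.inv
    have hi : ∀ ⦃W : Opens X⦄ (v : W ⟶ U) (a : ULift.{u} (Fin n) → O.obj.obj (op W)),
        ∑ i, a i • rs F v (Bridge.vals φ i) = 0 → a = 0 := fun W v a ha => funext fun i => by
      have h0 : Bridge.comb (V := Over.mk v) a = 0 := injective_ap φ (Over.mk v)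
        (((Bridge.vals_comb_eq_zero_iff (V := Over.mk v) φ a).2 ha).trans (map_zero _).symm)
      rw [← Bridge.coord_comb (V := Over.mk v) a i, h0]
      exact map_zero (ap (FlatCrit.Factor.proj (R := _root_.ModSite.ringSh (O.over U)) i)
        (U := Over.mk v))
    exact ⟨_, (linearIndependent_gm hxU (Bridge.vals φ) hi).comp _ Equiv.ulift.{u, 0}.symm.injective⟩

/-- Two trivializations near a point have index sets of the same size. -/
theorem card_eq [Nontrivial (_root_.ModSite.stalkRing (pt x) O)] {U' : Opens X} (hx : x ∈ U)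
    (hx' : x ∈ U') {I I' : Type u} (e : (_root_.ModSite.restr O U).obj F ≅ SheafOfModules.free I)
    (e' : (_root_.ModSite.restr O U').obj F ≅ SheafOfModules.free I') :
    ENat.card I = ENat.card I' := by
  refine eq_of_forall_le_iff fun a => ?_
  induction a using ENat.recTopCoe with
  | top =>
    simp only [top_le_iff, ENat.eq_top_iff_forall_ge]
    exact forall_congr' fun n => (has_iff hx e n).symm.trans (has_iff hx' e' n)
  | coe n => exact (has_iff hx e n).symm.trans (has_iff hx' e' n)

/-- The rank function of a locally free module. -/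
theorem exists_rank (hO : ∀ x : X, Nontrivial (_root_.ModSite.stalkRing (pt x) O))
    (h : ∀ x : X, ∃ (U : Opens X) (I : Type u), x ∈ U ∧
      Nonempty ((_root_.ModSite.restr O U).obj F ≅ SheafOfModules.free I)) :
    ∃ rk : X → ℕ∞, IsLocallyConstant rk ∧
      ∀ (x : X) (U : Opens X) (I : Type u), x ∈ U →
        Nonempty ((_root_.ModSite.restr O U).obj F ≅ SheafOfModules.free I) → ENat.card I = rk x := by
  choose U I hU e using h
  have key : ∀ (x : X) (V : Opens X) (J : Type u), x ∈ V →
      Nonempty ((_root_.ModSite.restr O V).obj F ≅ SheafOfModules.free J) →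
        ENat.card J = ENat.card (I x) := fun x V J hx ⟨e'⟩ => by
    haveI := hO x
    exact card_eq hx (hU x) e' (e x).some
  refine ⟨fun x => ENat.card (I x), IsLocallyConstant.iff_exists_open _ |>.2 fun x => ?_, key⟩
  exact ⟨U x, (U x).2, hU x, fun y hy => (key y _ _ hy (e x)).symm⟩

/-- A locally free module is free near every point. -/
theorem exists_trivialization [SheafOfModules.IsLocallyFree (R := _root_.ModSite.ringSh O) F] (x : X) :
    ∃ (U : Opens X) (I : Type u), x ∈ U ∧
      Nonempty ((_root_.ModSite.restr O U).obj F ≅ SheafOfModules.free I) := by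
  obtain ⟨q, hq⟩ := ‹SheafOfModules.IsLocallyFree (R := _root_.ModSite.ringSh O) F›.exists_isLocallyFreeData
  obtain ⟨V, f, hf, hxV⟩ := q.coversTop ⊤ x trivial
  obtain ⟨i, ⟨v⟩⟩ := (Sieve.mem_ofObjects_iff _ _).1 hf
  haveI := hq.isIso i
  exact ⟨q.X i, (q.generators i).I, v.le hxV, ⟨(asIso (q.generators i).π).symm⟩⟩

end Groth.Agent.Lib.ModSiteLoc.Rank
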