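import Groth.Agent.Lib.ModSiteLoc.Top
import Mathlib.Topology.Sheaves.Stalks
import Mathlib.Algebra.Category.Ring.FilteredColimits
import Mathlib.RingTheory.LocalRing.Module
import Mathlib.RingTheory.Finiteness.Projective
import Mathlib.LinearAlgebra.Matrix.ToLin

/-!
# Direct summands of finite free modules over a space with local stalks
-/

set_option autoImplicit false
set_option linter.style.haveILetI false

universe u

open CategoryTheory Limits Opposite TopologicalSpace Matrix

namespace Groth.Agent.Lib.ModSiteLoc.Retract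

open Groth.Agent.Lib.ModSiteLoc.Basic Groth.Agent.Lib.ModSiteLoc.Top

/-- An idempotent matrix over a local ring factors through a free module of the rank of its image. -/
theorem exists_factor {R : Type u} [CommRing R] [IsLocalRing R] {n : ℕ} (P : Matrix (Fin n) (Fin n) R)
    (hP : P * P = P) :
    ∃ (r : ℕ) (A : Matrix (Fin n) (Fin r) R) (B : Matrix (Fin r) (Fin n) R),
      A * B = P ∧ B * A = 1 := by
  classical
  let f := Matrix.toLin' P
  have hf : f ∘ₗ f = f := by rw [← Matrix.toLin'_mul, hP]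
  let R' := LinearMap.range f
  have hsplit : f.rangeRestrict ∘ₗ R'.subtype = LinearMap.id := by
    refine LinearMap.ext fun y => Subtype.ext ?_
    obtain ⟨z, hz⟩ := y.2
    change f y = y
    rw [← hz]
    exact LinearMap.congr_fun hf z
  haveI : Module.Projective R R' := Module.Projective.of_split R'.subtype f.rangeRestrict hsplit
  haveI : Module.Finite R R' := inferInstance
  haveI : Module.FinitePresentation R R' := Module.finitePresentation_of_projective R R'
  haveI : Module.Free R R' := Module.free_of_flat_of_isLocalRing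
  let e : R' ≃ₗ[R] (Fin (Module.finrank R R') → R) := (Module.finBasis R R').equivFun
  refine ⟨_, LinearMap.toMatrix' (R'.subtype ∘ₗ e.symm.toLinearMap),
    LinearMap.toMatrix' (e.toLinearMap ∘ₗ f.rangeRestrict), ?_, ?_⟩
  · rw [← LinearMap.toMatrix'_comp]
    refine Eq.trans (congrArg LinearMap.toMatrix' (LinearMap.ext fun z => ?_))
      (LinearMap.toMatrix'_toLin' P)
    simp [f]
  · rw [← LinearMap.toMatrix'_comp]
    refine Eq.trans (congrArg LinearMap.toMatrix' (LinearMap.ext fun z => ?_))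
      LinearMap.toMatrix'_id
    have := LinearMap.congr_fun hsplit (e.symm z)
    simp only [LinearMap.comp_apply, LinearEquiv.coe_coe, LinearMap.id_apply] at this ⊢
    rw [this, e.apply_symm_apply]

variable {X : TopCat.{u}} {O : CategoryTheory.Sheaf (Opens.grothendieckTopology X) CommRingCat.{u}}

/-- The presheaf of rings on the space. -/
abbrev psh (O : CategoryTheory.Sheaf (Opens.grothendieckTopology X) CommRingCat.{u}) :
    TopCat.Presheaf CommRingCat.{u} X := O.obj

/-- The germ ring map at a point. -/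
noncomputable abbrev gs (O : CategoryTheory.Sheaf (Opens.grothendieckTopology X) CommRingCat.{u})
    {U : Opens X} {x : X} (hx : x ∈ U) : O.obj.obj (op U) →+* ↥((TopCat.Presheaf.stalk (psh O) x : CommRingCat.{u})) :=
  (TopCat.Presheaf.germ (psh O) U x hx).hom

lemma gs_rr {U V : Opens X} {x : X} (v : V ⟶ U) (hV : x ∈ V) (a : O.obj.obj (op U)) :
    gs O hV (rr O v a) = gs O (v.le hV) a :=
  TopCat.Presheaf.germ_res_apply (psh O) v x hV a

/-- Finitely many germs come from a common neighbourhood. -/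
lemma exists_gs {U : Opens X} {x : X} (hU : x ∈ U) {ι : Type*} [Finite ι]
    (m : ι → ↥((TopCat.Presheaf.stalk (psh O) x : CommRingCat.{u}))) :
    ∃ (V : Opens X) (_ : V ≤ U) (hV : x ∈ V) (s : ι → O.obj.obj (op V)), ∀ i, gs O hV (s i) = m i := by
  classical
  have := Fintype.ofFinite ι
  choose W hW s hs using fun i => TopCat.Presheaf.exists_germ_eq (psh O) (m i)
  have hV : x ∈ U ⊓ Finset.univ.inf W := ⟨hU, by
    rw [Opens.coe_finset_inf]
    simpa using hW⟩
  exact ⟨_, inf_le_left, hV,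
    fun i => rr O (homOfLE (inf_le_right.trans (Finset.inf_le (Finset.mem_univ i)))) (s i),
    fun i => (gs_rr _ hV (s i)).trans (hs i)⟩

/-- Finitely many pairs of functions with equal germs agree near the point. -/
lemma exists_eq {U : Opens X} {x : X} (hU : x ∈ U) {ι : Type*} [Finite ι]
    (s t : ι → O.obj.obj (op U)) (h : ∀ i, gs O hU (s i) = gs O hU (t i)) :
    ∃ (V : Opens X) (hVU : V ≤ U), x ∈ V ∧
      ∀ i, rr O (homOfLE hVU) (s i) = rr O (homOfLE hVU) (t i) := by
  classical
  have := Fintype.ofFinite ι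
  choose W hW a b hab using fun i => TopCat.Presheaf.germ_eq (psh O) x hU hU (s i) (t i) (h i)
  have hV : x ∈ U ⊓ Finset.univ.inf W := ⟨hU, by
    rw [Opens.coe_finset_inf]
    simpa using hW⟩
  refine ⟨_, inf_le_left, hV, fun i => ?_⟩
  have h1 := congrArg (rr O (homOfLE (inf_le_right.trans (Finset.inf_le (f := W) (Finset.mem_univ i))) :
    U ⊓ Finset.univ.inf W ⟶ W i)) (hab i)
  rw [rr_rr, rr_rr] at h1
  exact h1

variable {F H : _root_.ModSite.Mod O}

/-- A direct summand of a locally finite free module is finite free near points with local stalk. -/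
theorem exists_freeAt_of_retract (i : F ⟶ H) (p : H ⟶ F) (hip : i ≫ p = 𝟙 F) {U : Opens X} {x : X}
    (hU : x ∈ U) {n : ℕ} (h : FreeAt H n U) [IsLocalRing (↥((TopCat.Presheaf.stalk (psh O) x : CommRingCat.{u})))] :
    ∃ (V : Opens X) (r : ℕ), x ∈ V ∧ FreeAt F r V := by
  classical
  obtain ⟨e, he, hi⟩ := h
  have hpi : ∀ {W : Opens X} (z : _root_.ModSite.sect F W), ap p (ap i z) = z := fun z =>
    congrArg (fun q : F ⟶ F => ap q z) hip
  haveI : Epi p := epi_of_exists_lift p fun W t => ⟨⊤, GrothendieckTopology.top_mem _ _,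
    fun W' g _ => ⟨ap i (rs F g t), hpi _⟩⟩
  obtain ⟨T, hT, hT'⟩ := Ops.exists_coeffs he (𝟙 U) fun k => ap i (ap p (e k))
  obtain ⟨U₁, h₁, hx₁, hTU⟩ := exists_nhd hT hU
  obtain ⟨M, hM⟩ := hT' _ hTU
  simp only [Category.comp_id] at hM
  let v₁ : U₁ ⟶ U := homOfLE h₁
  have hM' : ∀ {W : Opens X} (v : W ⟶ U₁) (k : Fin n), ap i (ap p (rs H (v ≫ v₁) (e k))) =
      ∑ l, rr O v (M k l) • rs H (v ≫ v₁) (e l) := fun v k => by
    have := congrArg (rs H v) (hM k)
    simp only [rs_sum, rs_rs] at this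
    rw [ap_rs, ap_rs]
    exact this
  have hidem : Matrix.of M * Matrix.of M = Matrix.of M := by
    ext k l
    have h0 : ∑ l, ((∑ j, M k j * M j l) - M k l) • rs H v₁ (e l) = 0 := by
      have e1 : ap i (ap p (ap i (ap p (rs H v₁ (e k))))) = ap i (ap p (rs H v₁ (e k))) :=
        congrArg (ap i) (hpi _)
      have e3 : ∀ j, ap i (ap p (rs H v₁ (e j))) = ∑ l, M j l • rs H v₁ (e l) := fun j => by
        rw [ap_rs, ap_rs]
        exact hM j
      rw [e3 k, ap_sum, ap_sum] at e1
      simp only [e3, Finset.smul_sum, smul_smul] at e1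
      rw [Finset.sum_comm] at e1
      simp only [sub_smul, Finset.sum_sub_distrib, Finset.sum_smul]
      rw [e1, sub_self]
    simpa [Matrix.mul_apply, sub_eq_zero] using congrFun (hi v₁ _ h0) l
  obtain ⟨r, A₀, B₀, hAB₀, hBA₀⟩ := exists_factor ((Matrix.of M).map (gs O hx₁))
    (by rw [← Matrix.map_mul, hidem])
  obtain ⟨U₂, h₂, hx₂, C, hC⟩ := exists_gs hx₁ fun q : Fin n × Fin r ⊕ Fin r × Fin n =>
    Sum.elim (fun q => A₀ q.1 q.2) (fun q => B₀ q.1 q.2) q
  let A : Matrix (Fin n) (Fin r) (O.obj.obj (op U₂)) := Matrix.of fun a b => C (.inl (a, b))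
  let B : Matrix (Fin r) (Fin n) (O.obj.obj (op U₂)) := Matrix.of fun a b => C (.inr (a, b))
  let v₂ : U₂ ⟶ U₁ := homOfLE h₂
  have hA : A.map (gs O hx₂) = A₀ := Matrix.ext fun a b => hC (.inl (a, b))
  have hB : B.map (gs O hx₂) = B₀ := Matrix.ext fun a b => hC (.inr (a, b))
  have hM₂ : ((Matrix.of M).map (rr O v₂)).map (gs O hx₂) = (Matrix.of M).map (gs O hx₁) :=
    Matrix.ext fun a b => gs_rr v₂ hx₂ (M a b)
  have eAB : (A * B).map (gs O hx₂) = ((Matrix.of M).map (rr O v₂)).map (gs O hx₂) := by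
    rw [Matrix.map_mul, hA, hB, hAB₀, hM₂]
  have eBA : (B * A).map (gs O hx₂) =
      (1 : Matrix (Fin r) (Fin r) (O.obj.obj (op U₂))).map (gs O hx₂) := by
    rw [Matrix.map_mul, hA, hB, hBA₀, Matrix.map_one _ (map_zero _) (map_one _)]
  obtain ⟨V, h₃, hxV, hV⟩ := exists_eq hx₂
    (fun q : Fin n × Fin n ⊕ Fin r × Fin r =>
      Sum.elim (fun q => (A * B) q.1 q.2) (fun q => (B * A) q.1 q.2) q)
    (fun q => Sum.elim (fun q => ((Matrix.of M).map (rr O v₂)) q.1 q.2)
      (fun q => (1 : Matrix (Fin r) (Fin r) (O.obj.obj (op U₂))) q.1 q.2) q) (by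
      rintro (⟨a, b⟩ | ⟨a, b⟩)
      · exact congrFun (congrFun eAB a) b
      · exact congrFun (congrFun eBA a) b)
  let v₃ : V ⟶ U₂ := homOfLE h₃
  let A' := A.map (rr O v₃)
  let B' := B.map (rr O v₃)
  let M' := (Matrix.of M).map (rr O (v₃ ≫ v₂))
  have hAB : A' * B' = M' := by
    rw [← Matrix.map_mul]
    exact Matrix.ext fun a b => (hV (.inl (a, b))).trans (rr_rr _ _ _)
  have hBA : B' * A' = 1 := by
    rw [← Matrix.map_mul]
    refine Matrix.ext fun a b => (hV (.inr (a, b))).trans ?_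
    rcases eq_or_ne a b with rfl | hab <;> simp [Matrix.one_apply, *]
  let w : V ⟶ U := (v₃ ≫ v₂) ≫ v₁
  have hMw : ∀ k, ap i (ap p (rs H w (e k))) = ∑ l, M' k l • rs H w (e l) := fun k =>
    hM' (v₃ ≫ v₂) k
  have hMp : ∀ k, ap p (rs H w (e k)) = ∑ l, M' k l • ap p (rs H w (e l)) := fun k => by
    conv_lhs => rw [← hpi (ap p (rs H w (e k))), hMw, ap_sum]
  refine ⟨V, r, hxV, fun j => ∑ k, B' j k • ap p (rs H w (e k)),
    Ops.gen_of_coeffs ((he.res w).map p) (fun k j => A' k j) fun k => ?_, fun W v c hc => ?_⟩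
  · refine (hMp k).trans ?_
    simp only [← hAB, Matrix.mul_apply, Finset.sum_smul, Finset.smul_sum, smul_smul]
    exact Finset.sum_comm
  · have h0 := congrArg (ap i) hc
    simp only [rs_sum] at h0
    simp only [← ap_rs, rs_rs] at h0
    simp only [ap_sum, map_zero] at h0
    have hMv : ∀ k, ap i (ap p (rs H (v ≫ w) (e k))) = ∑ l, rr O v (M' k l) • rs H (v ≫ w) (e l) := fun k => by
      have := congrArg (rs H v) (hMw k)
      simp only [rs_sum, ← ap_rs, rs_rs] at this
      exact this
    simp only [hMv, Finset.smul_sum, smul_smul] at h0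
    have h1 : Matrix.vecMul (Matrix.vecMul c (B'.map (rr O v))) (M'.map (rr O v)) = 0 := by
      refine hi (v ≫ w) _ (Eq.trans ?_ h0)
      simp only [Matrix.vecMul, dotProduct, Matrix.map_apply, Finset.sum_mul, Finset.sum_smul]
      rw [Finset.sum_comm]
      conv_rhs => rw [Finset.sum_comm]
      exact Finset.sum_congr rfl fun a _ => Finset.sum_comm.trans
        (Finset.sum_congr rfl fun b _ => Finset.sum_congr rfl fun l _ => by rw [mul_assoc])
    have h2 : B'.map (rr O v) * A'.map (rr O v) = 1 := by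
      rw [← Matrix.map_mul, hBA, Matrix.map_one _ (map_zero _) (map_one _)]
    have h3 : Matrix.vecMul c (B'.map (rr O v)) = 0 := by
      rw [← Matrix.vecMul_one c, Matrix.vecMul_vecMul, Matrix.one_mul]
      rw [← hAB, Matrix.map_mul, Matrix.vecMul_vecMul, ← Matrix.mul_assoc, h2, Matrix.one_mul] at h1
      exact h1
    rw [← Matrix.vecMul_one c, ← h2, ← Matrix.vecMul_vecMul, h3, Matrix.zero_vecMul]

end Groth.Agent.Lib.ModSiteLoc.Retract
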