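import Groth.Agent.Lib.ModSiteLoc.Basic
import Groth.Agent.Lib.FreeCompact.Local

/-!
# Sections of direct sums of modules are locally finite sums
-/

set_option autoImplicit false
set_option linter.style.haveILetI false

universe u

open CategoryTheory Limits Opposite

namespace Groth.Agent.Lib.ModSiteLoc.Sum

open Groth.Agent.Lib.ModSiteLoc.Basic Groth.Agent.Lib.DerCat Groth.Agent.Lib.FinPresFree.Site

variable {C : Type u} [SmallCategory C] {J : GrothendieckTopology C} {O : Sheaf J CommRingCat.{u}}
  {ι : Type u} {F : ι → _root_.ModSite.Mod O}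

/-- Locally a section of a direct sum is fixed by a finite cut. -/
theorem exists_cover {U : C} (x : _root_.ModSite.sect (∐ F) U) :
    ∃ S ∈ J U, ∀ ⦃V : C⦄ (f : V ⟶ U), S f → ∃ T : Finset ι,
      ap (Compact.cut F T) (rs (∐ F) f x) = rs (∐ F) f x := by
  obtain ⟨S, hS, h⟩ := FreeCompact.exists_local_cut O F ((secOf O U (∐ F)).symm x)
  refine ⟨S, hS, fun V f hf => ?_⟩
  obtain ⟨T, hT⟩ := h f hf
  refine ⟨T, ?_⟩
  have := congrArg (secOf O V (∐ F)) hT
  rw [secOf_comp, secOf_map, Equiv.apply_symm_apply] at this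
  exact this

lemma cut_mono {U : C} {T T' : Finset ι} (h : T ⊆ T') {x : _root_.ModSite.sect (∐ F) U}
    (hx : ap (Compact.cut F T) x = x) : ap (Compact.cut F T') x = x := by
  have := congrArg (fun g : (∐ F) ⟶ ∐ F => ap g x) (Compact.cut_comp F h)
  change ap (Compact.cut F T') (ap (Compact.cut F T) x) = ap (Compact.cut F T) x at this
  rw [hx] at this
  exact this

/-- A cut is the sum of the components. -/
lemma ap_cut (T : Finset ι) {U : C} (x : _root_.ModSite.sect (∐ F) U) :
    ap (Compact.cut F T) x = ∑ i ∈ T, ap (Sigma.ι F i) (ap (Compact.proj F i) x) := by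
  let E : ((∐ F) ⟶ ∐ F) →+ _root_.ModSite.sect (∐ F) U :=
    { toFun := fun χ => ap χ x
      map_zero' := rfl
      map_add' := fun _ _ => rfl }
  exact map_sum E (fun i => Compact.proj F i ≫ Sigma.ι F i) T

/-- Finite sums of components are unique. -/
lemma eq_zero_of_sum_eq_zero {U : C} (T : Finset ι) (t : ∀ i, _root_.ModSite.sect (F i) U)
    (h : ∑ i ∈ T, ap (Sigma.ι F i) (t i) = 0) (i : ι) (hi : i ∈ T) : t i = 0 := by
  classical
  have h' := congrArg (ap (Compact.proj F i)) h
  rw [map_sum, map_zero, Finset.sum_eq_single i] at h'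
  · exact (congrArg (fun g : F i ⟶ F i => ap g (t i)) (Compact.ι_proj F i)).symm.trans h'
  · intro j _ hj
    exact congrArg (fun g : F j ⟶ F i => ap g (t j)) (Compact.ι_proj_ne F hj)
  · exact fun h => absurd hi h

end Groth.Agent.Lib.ModSiteLoc.Sum
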