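import Groth.Agent.Lib.ModSiteLoc.Bridge
import Groth.Agent.Lib.ModSiteLoc.LocGen
import Groth.Agent.Lib.ModTensor.ModSite
import Groth.Agent.Lib.ExtZero.Restr

/-!
# Tensor products of locally generated, quasi-coherent, finitely presented and locally free modules
-/

set_option autoImplicit false
set_option linter.style.haveILetI false
noncomputable section

universe u

open CategoryTheory CategoryTheory.Limits Opposite

namespace Groth.Agent.Lib.ModSiteLoc.Tensor

open Groth.Agent.Lib.ModTensor.ModSite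

section Cat

variable {C : Type u} [SmallCategory C] {J : GrothendieckTopology C} {O : Sheaf J CommRingCat.{u}}

/-- The tensor product. -/
abbrev T (A B : _root_.ModSite.Mod O) : _root_.ModSite.Mod O := ((_root_.ModSite.tensorBi O).obj A).obj B

/-- The free module. -/
abbrev F (O : Sheaf J CommRingCat.{u}) (ι : Type u) : _root_.ModSite.Mod O :=
  SheafOfModules.free (R := _root_.ModSite.ringSh O) ι

theorem free_hom_ext' {ι : Type u} {Z : _root_.ModSite.Mod O} {a b : F O ι ⟶ Z}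
    (h : ∀ i, SheafOfModules.ιFree i ≫ a = SheafOfModules.ιFree i ≫ b) : a = b :=
  Cofan.IsColimit.hom_ext (SheafOfModules.isColimitFreeCofan ι) _ _ h

/-- Tensoring two maps. -/
def tm {A A' B B' : _root_.ModSite.Mod O} (a : A ⟶ A') (b : B ⟶ B') : T A B ⟶ T A' B' :=
  ((_root_.ModSite.tensorBi O).map a).app B ≫ ((_root_.ModSite.tensorBi O).obj A').map b

theorem tm_comp {A A' A'' B B' B'' : _root_.ModSite.Mod O} (a : A ⟶ A') (a' : A' ⟶ A'') (b : B ⟶ B') (b' : B' ⟶ B'') :
    tm (a ≫ a') (b ≫ b') = tm a b ≫ tm a' b' := by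
  simp [tm]

theorem tm_id (A B : _root_.ModSite.Mod O) : tm (𝟙 A) (𝟙 B) = 𝟙 (T A B) := by
  simp [tm]

theorem epi_left {A A' : _root_.ModSite.Mod O} (a : A ⟶ A') [Epi a] (B : _root_.ModSite.Mod O) :
    Epi (tm a (𝟙 B)) := by
  haveI := preservesColimits_flip (O := O) B
  haveI : PreservesColimitsOfSize.{0, 0} ((_root_.ModSite.tensorBi O).flip.obj B) :=
    preservesSmallestColimits_of_preservesColimits _
  haveI := preservesEpimorphisms_of_preservesColimitsOfShape ((_root_.ModSite.tensorBi O).flip.obj B)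
  have h : tm a (𝟙 B) = ((_root_.ModSite.tensorBi O).flip.obj B).map a := by simp [tm]
  exact h ▸ inferInstance

theorem epi_right (A : _root_.ModSite.Mod O) {B B' : _root_.ModSite.Mod O} (b : B ⟶ B') [Epi b] :
    Epi (tm (𝟙 A) b) := by
  haveI := preservesColimits_obj (O := O) A
  haveI : PreservesColimitsOfSize.{0, 0} ((_root_.ModSite.tensorBi O).obj A) :=
    preservesSmallestColimits_of_preservesColimits _
  haveI := preservesEpimorphisms_of_preservesColimitsOfShape ((_root_.ModSite.tensorBi O).obj A)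
  have h : tm (𝟙 A) b = ((_root_.ModSite.tensorBi O).obj A).map b := by simp [tm]
  exact h ▸ inferInstance

theorem epi_tm {A A' B B' : _root_.ModSite.Mod O} (a : A ⟶ A') (b : B ⟶ B') [Epi a] [Epi b] :
    Epi (tm a b) := by
  haveI := epi_left a B
  haveI := epi_right A' b
  have h : tm a b = tm a (𝟙 B) ≫ tm (𝟙 A') b := by rw [← tm_comp, Category.comp_id, Category.id_comp]
  rw [h]
  exact epi_comp _ _

/-- Tensoring two isomorphisms. -/
def tmIso {A A' B B' : _root_.ModSite.Mod O} (a : A ≅ A') (b : B ≅ B') : T A B ≅ T A' B' where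
  hom := tm a.hom b.hom
  inv := tm a.inv b.inv
  hom_inv_id := by rw [← tm_comp, a.hom_inv_id, b.hom_inv_id, tm_id]
  inv_hom_id := by rw [← tm_comp, a.inv_hom_id, b.inv_hom_id, tm_id]

/-- The map out of a free module with given values. -/
def fdesc {ι : Type u} {Z : _root_.ModSite.Mod O} (s : ι → (SheafOfModules.unit (_root_.ModSite.ringSh O) ⟶ Z)) :
    F O ι ⟶ Z :=
  Cofan.IsColimit.desc (SheafOfModules.isColimitFreeCofan ι) s

@[reassoc]
theorem ι_fdesc {ι : Type u} {Z : _root_.ModSite.Mod O} (s : ι → (SheafOfModules.unit (_root_.ModSite.ringSh O) ⟶ Z))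
    (i : ι) : SheafOfModules.ιFree i ≫ fdesc s = s i :=
  Cofan.IsColimit.fac (SheafOfModules.isColimitFreeCofan ι) s i

/-- An iterated free module is free. -/
def freeSigma (ι ι' : Type u) : (∐ fun _ : ι' => F O ι) ≅ F O (ι' × ι) where
  hom := Sigma.desc fun i' => fdesc fun i => SheafOfModules.ιFree (i', i)
  inv := fdesc fun q : ι' × ι => SheafOfModules.ιFree q.2 ≫ Sigma.ι (fun _ : ι' => F O ι) q.1
  hom_inv_id := by
    refine Sigma.hom_ext _ _ fun i' => ?_
    rw [Sigma.ι_desc_assoc, Category.comp_id]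
    refine free_hom_ext' fun i => ?_
    rw [ι_fdesc_assoc, ι_fdesc]
  inv_hom_id := by
    refine free_hom_ext' fun q => ?_
    rw [ι_fdesc_assoc, Category.assoc, Sigma.ι_desc, ι_fdesc]
    exact (Category.comp_id _).symm

/-- The tensor product of free modules is free. -/
def freeTen (ι ι' : Type u) : T (F O ι) (F O ι') ≅ F O (ι' × ι) :=
  haveI := preservesColimits_obj (O := O) (F O ι)
  PreservesCoproduct.iso ((_root_.ModSite.tensorBi O).obj (F O ι)) _ ≪≫
    Sigma.mapIso (fun _ : ι' => (flipUnitIso (O := O)).app (F O ι)) ≪≫ freeSigma ι ι'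

variable {M N : _root_.ModSite.Mod O}

/-- Presentations: a short complex of free modules which is exact and ends with an epimorphism. -/
def HasPres (M : _root_.ModSite.Mod O) (ι κ : Type u) : Prop :=
  ∃ (f : F O κ ⟶ F O ι) (p : F O ι ⟶ M) (_ : Epi p) (w : f ≫ p = 0),
    Nonempty (IsColimit (CokernelCofork.ofπ p w))

/-- A presentation of a tensor product. -/
theorem HasPres.tensor {ι κ ι' κ' : Type u} (h : HasPres M ι κ) (h' : HasPres N ι' κ') :
    HasPres (T M N) (ι' × ι) ((ι' × κ) ⊕ (κ' × ι)) := by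
  obtain ⟨f, p, hp, w, ⟨hc⟩⟩ := h
  obtain ⟨g, q, hq, w', ⟨hc'⟩⟩ := h'
  haveI := hp
  haveI := hq
  let a : F O (ι' × κ) ⟶ F O (ι' × ι) :=
    (freeTen κ ι').inv ≫ tm f (𝟙 _) ≫ (freeTen ι ι').hom
  let b : F O (κ' × ι) ⟶ F O (ι' × ι) :=
    (freeTen ι κ').inv ≫ tm (𝟙 _) g ≫ (freeTen ι ι').hom
  let m : F O ((ι' × κ) ⊕ (κ' × ι)) ⟶ F O (ι' × ι) :=
    Cofan.IsColimit.desc (SheafOfModules.isColimitFreeCofan _)
      fun s => s.elim (fun i => SheafOfModules.ιFree i ≫ a) (fun i => SheafOfModules.ιFree i ≫ b)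
  have hmι : ∀ j, SheafOfModules.ιFree j ≫ m =
      j.elim (fun i => SheafOfModules.ιFree i ≫ a) (fun i => SheafOfModules.ιFree i ≫ b) :=
    fun j => Cofan.IsColimit.fac (SheafOfModules.isColimitFreeCofan _) _ j
  let π : F O (ι' × ι) ⟶ T M N := (freeTen ι ι').inv ≫ tm p q
  haveI := epi_tm p q
  haveI hπ : Epi π := epi_comp _ _
  have hm : ∀ {Z : _root_.ModSite.Mod O} (z : F O (ι' × ι) ⟶ Z), m ≫ z = 0 ↔ (a ≫ z = 0 ∧ b ≫ z = 0) := by
    intro Z z
    constructor
    · intro hz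
      refine ⟨free_hom_ext' fun i => ?_, free_hom_ext' fun i => ?_⟩
      · have := (Category.assoc _ _ _).trans ((congrArg (SheafOfModules.ιFree (Sum.inl i) ≫ ·) hz).trans comp_zero)
        rw [hmι, Sum.elim_inl, Category.assoc] at this
        rw [comp_zero]
        exact this
      · have := (Category.assoc _ _ _).trans ((congrArg (SheafOfModules.ιFree (Sum.inr i) ≫ ·) hz).trans comp_zero)
        rw [hmι, Sum.elim_inr, Category.assoc] at this
        rw [comp_zero]
        exact this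
    · rintro ⟨ha, hb⟩
      refine free_hom_ext' fun i => ?_
      rw [← Category.assoc, hmι, comp_zero]
      rcases i with i | i
      · rw [Sum.elim_inl, Category.assoc, ha, comp_zero]
      · rw [Sum.elim_inr, Category.assoc, hb, comp_zero]
  have hw : m ≫ π = 0 := by
    refine (hm π).2 ⟨?_, ?_⟩
    · simp only [a, π, Category.assoc, Iso.hom_inv_id_assoc]
      rw [← tm_comp, w, Category.id_comp]
      simp [tm]
    · simp only [b, π, Category.assoc, Iso.hom_inv_id_assoc]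
      rw [← tm_comp, w', Category.id_comp]
      simp [tm]
  refine ⟨m, π, hπ, hw, ⟨CokernelCofork.IsColimit.ofπ' π hw fun {Z} z hz => Nonempty.some ?_⟩⟩
  obtain ⟨ha, hb⟩ := (hm z).1 hz
  -- descend along `p ⊗ 1`
  have ha' : ((_root_.ModSite.tensorBi O).flip.obj (F O ι')).map f ≫ ((freeTen ι ι').hom ≫ z) = 0 := by
    have h1 : ((_root_.ModSite.tensorBi O).flip.obj (F O ι')).map f = tm f (𝟙 _) := by simp [tm]
    rw [h1]
    have := congrArg ((freeTen κ ι').hom ≫ ·) ha
    simpa [a] using this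
  haveI := preservesColimits_flip (O := O) (F O ι')
  haveI : PreservesColimitsOfSize.{0, 0} ((_root_.ModSite.tensorBi O).flip.obj (F O ι')) :=
    preservesSmallestColimits_of_preservesColimits _
  haveI : ((_root_.ModSite.tensorBi O).flip.obj (F O ι')).PreservesZeroMorphisms :=
    Functor.preservesZeroMorphisms_of_preserves_initial_object
  let hc1 := CokernelCofork.mapIsColimit _ hc ((_root_.ModSite.tensorBi O).flip.obj (F O ι'))
  obtain ⟨z₁, hz₁⟩ := CokernelCofork.IsColimit.desc' hc1 _ ha'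
  have hz₁' : tm p (𝟙 (F O ι')) ≫ z₁ = (freeTen ι ι').hom ≫ z := by
    have h1 : ((_root_.ModSite.tensorBi O).flip.obj (F O ι')).map p = tm p (𝟙 _) := by simp [tm]
    rw [← h1]
    exact hz₁
  haveI := preservesColimits_obj (O := O) M
  haveI : PreservesColimitsOfSize.{0, 0} ((_root_.ModSite.tensorBi O).obj M) :=
    preservesSmallestColimits_of_preservesColimits _
  haveI : ((_root_.ModSite.tensorBi O).obj M).PreservesZeroMorphisms :=
    Functor.preservesZeroMorphisms_of_preserves_initial_object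
  have hb' : ((_root_.ModSite.tensorBi O).obj M).map g ≫ z₁ = 0 := by
    have h1 : ((_root_.ModSite.tensorBi O).obj M).map g = tm (𝟙 M) g := by simp [tm]
    rw [h1]
    haveI := epi_left p (F O κ')
    refine (cancel_epi (tm p (𝟙 (F O κ')))).1 ?_
    rw [← Category.assoc, ← tm_comp, Category.comp_id, Category.id_comp,
      show tm p g = tm (𝟙 (F O ι)) g ≫ tm p (𝟙 _) by rw [← tm_comp, Category.comp_id, Category.id_comp],
      Category.assoc, hz₁', comp_zero]
    have := congrArg ((freeTen ι κ').hom ≫ ·) hb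
    simpa [b] using this
  let hc2 := CokernelCofork.mapIsColimit _ hc' ((_root_.ModSite.tensorBi O).obj M)
  obtain ⟨z₂, hz₂⟩ := CokernelCofork.IsColimit.desc' hc2 _ hb'
  refine ⟨⟨z₂, ?_⟩⟩
  have h2 : tm (𝟙 M) q ≫ z₂ = z₁ := by
    have h1 : ((_root_.ModSite.tensorBi O).obj M).map q = tm (𝟙 M) q := by simp [tm]
    rw [← h1]
    exact hz₂
  show π ≫ z₂ = z
  have h3 : tm p q = tm p (𝟙 _) ≫ tm (𝟙 M) q := by rw [← tm_comp, Category.comp_id, Category.id_comp]
  simp only [π, h3, Category.assoc, h2, hz₁', Iso.inv_hom_id_assoc]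

theorem HasPres.of_iso {ι κ : Type u} (h : HasPres M ι κ) (e : M ≅ N) : HasPres N ι κ := by
  obtain ⟨f, p, hp, w, ⟨hc⟩⟩ := h
  haveI := hp
  exact ⟨f, p ≫ e.hom, epi_comp _ _, by rw [← Category.assoc, w, zero_comp],
    ⟨IsColimit.ofIsoColimit hc (Cofork.ext e (by simp))⟩⟩

end Cat

section Local

open Groth.Agent.Lib.ModSiteLoc.Basic Groth.Agent.Lib.ModSiteLoc.Free Groth.Agent.Lib.ModSiteLoc.Bridge
  Groth.Agent.Lib.FlatCrit.Factor

variable {C : Type u} [SmallCategory C] {J : GrothendieckTopology C} {O : Sheaf J CommRingCat.{u}}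
  {M N : _root_.ModSite.Mod O} {U : C}

theorem presAt_of_hasPres {ι κ : Type u} (h : HasPres (ovr M U) ι κ) : PresAt M U := by
  obtain ⟨f, p, hp, w, ⟨hc⟩⟩ := h
  obtain ⟨s, y, hs, hy⟩ := exists_of_presentation (SheafOfModules.presentationOfIsCokernelFree f p w hc)
  exact ⟨_, _, s, y, hs, hy⟩

theorem finPresAt_of_hasPres {ι κ : Type u} [Finite ι] [Finite κ] (h : HasPres (ovr M U) ι κ) :
    FinPresAt M U := by
  obtain ⟨f, p, hp, w, ⟨hc⟩⟩ := h
  obtain ⟨s, y, hs, hy⟩ := exists_of_presentation (SheafOfModules.presentationOfIsCokernelFree f p w hc)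
  exact ⟨_, _, (inferInstanceAs (Finite ι)), (inferInstanceAs (Finite κ)), s, y, hs, hy⟩

theorem hasPres_of_pres {ι κ : Type u} {s : ι → _root_.ModSite.sect M U}
    {y : κ → _root_.ModSite.sect (FM O ι) U} (hs : GenI s) (hy : RelI s y) : HasPres (ovr M U) ι κ := by
  haveI : Epi (toMap s) := (epi_toMap_iff s).2 hs
  have w : toMap y ≫ toMap s = 0 := (toMap_comp_eq_zero_iff s y).2 hy.1
  haveI : Epi ((eU O U ι).hom ≫ toMap s) := epi_comp _ _
  have w' : ((eU O U κ).hom ≫ toMap y ≫ (eU O U ι).inv) ≫ (eU O U ι).hom ≫ toMap s = 0 := by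
    rw [Category.assoc, Category.assoc, Iso.inv_hom_id_assoc, w, comp_zero]
  exact ⟨_, _, inferInstance, w', ⟨((ShortComplex.exact_iff_of_iso
    (ShortComplex.isoMk (S₁ := ShortComplex.mk _ _ w') (S₂ := ShortComplex.mk (toMap y) (toMap s) w)
      (eU O U κ) (eU O U ι) (Iso.refl _) (by simp) (by simp))).2
    (exact_toMap s y w hy)).gIsCokernel⟩⟩

theorem presAt_tensor (h : PresAt M U) (h' : PresAt N U) : PresAt (T M N) U := by
  obtain ⟨ι, κ, s, y, hs, hy⟩ := h
  obtain ⟨ι', κ', s', y', hs', hy'⟩ := h'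
  exact presAt_of_hasPres (((hasPres_of_pres hs hy).tensor (hasPres_of_pres hs' hy')).of_iso
    (ExtZero.Restr.restrTensorIso U M N).symm)

theorem finPresAt_tensor (h : FinPresAt M U) (h' : FinPresAt N U) : FinPresAt (T M N) U := by
  obtain ⟨ι, κ, hι, hκ, s, y, hs, hy⟩ := h
  obtain ⟨ι', κ', hι', hκ', s', y', hs', hy'⟩ := h'
  exact finPresAt_of_hasPres (((hasPres_of_pres hs hy).tensor (hasPres_of_pres hs' hy')).of_iso
    (ExtZero.Restr.restrTensorIso U M N).symm)

theorem genAt_of_epi {ι : Type u} (φ : F (O.over U) ι ⟶ ovr M U) [Epi φ] :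
    ∃ s : ι → _root_.ModSite.sect M U, GenI s := by
  let φ' : FU O U ι ⟶ ovr M U := (eU O U ι).inv ≫ φ
  let s : ι → _root_.ModSite.sect M U := fun j => el (R := _root_.ModSite.ringSh O) (M := ovr M U)
    ((_root_.ModSite.restr O U).map (SheafOfModules.ιFree j) ≫ φ')
  have hφ : φ' = toMap s := eq_toMap φ'
  haveI : Epi (toMap s) := hφ ▸ (epi_comp _ _ : Epi φ')
  exact ⟨s, (epi_toMap_iff s).1 inferInstance⟩

theorem exists_epi_of_gen {ι : Type u} {s : ι → _root_.ModSite.sect M U} (hs : GenI s) :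
    ∃ φ : F (O.over U) ι ⟶ ovr M U, Epi φ := by
  haveI : Epi (toMap s) := (epi_toMap_iff s).2 hs
  exact ⟨(eU O U ι).hom ≫ toMap s, epi_comp _ _⟩

theorem exists_epi_tensor {ι ι' : Type u} (φ : F (O.over U) ι ⟶ ovr M U) [Epi φ]
    (φ' : F (O.over U) ι' ⟶ ovr N U) [Epi φ'] :
    ∃ ψ : F (O.over U) (ι' × ι) ⟶ ovr (T M N) U, Epi ψ := by
  haveI := epi_tm φ φ'
  exact ⟨(freeTen ι ι').inv ≫ tm φ φ' ≫ (ExtZero.Restr.restrTensorIso U M N).inv, inferInstance⟩

theorem genAt_tensor (h : LocGen.GenAt M U) (h' : LocGen.GenAt N U) : LocGen.GenAt (T M N) U := by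
  obtain ⟨ι, s, hs⟩ := h
  obtain ⟨ι', s', hs'⟩ := h'
  obtain ⟨φ, hφ⟩ := exists_epi_of_gen hs
  obtain ⟨φ', hφ'⟩ := exists_epi_of_gen hs'
  obtain ⟨ψ, hψ⟩ := exists_epi_tensor φ φ'
  obtain ⟨t, ht⟩ := genAt_of_epi ψ
  exact ⟨_, t, ht⟩

theorem exists_epi_of_ftAt (h : FTAt M U) :
    ∃ (n : ℕ) (φ : F (O.over U) (ULift.{u} (Fin n)) ⟶ ovr M U), Epi φ := by
  obtain ⟨n, s, hs⟩ := h
  have hs' : Gen M fun i : ULift.{u} (Fin n) => s i.down := hs.reindex Equiv.ulift.{u, 0}
  exact ⟨n, ofVals (M := M) fun i : ULift.{u} (Fin n) => s i.down,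
    epi_of_gen _ (by rw [vals_ofVals]; exact hs')⟩

theorem ftAt_tensor (h : FTAt M U) (h' : FTAt N U) : FTAt (T M N) U := by
  obtain ⟨n, φ, hφ⟩ := exists_epi_of_ftAt h
  obtain ⟨n', φ', hφ'⟩ := exists_epi_of_ftAt h'
  obtain ⟨ψ, hψ⟩ := exists_epi_tensor φ φ'
  exact FTAt.mk' (gen_of_epi (M := T M N) ψ)

theorem lfAt_of_iso {ι : Type u} (e : F (O.over U) ι ≅ ovr M U) : LFAt M U := by
  let φ := (eU O U ι).inv ≫ e.hom
  let s : ι → _root_.ModSite.sect M U := fun j => el (R := _root_.ModSite.ringSh O) (M := ovr M U)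
    ((_root_.ModSite.restr O U).map (SheafOfModules.ιFree j) ≫ φ)
  have hφ : φ = toMap s := eq_toMap φ
  haveI : IsIso (toMap s) := hφ ▸ (inferInstance : IsIso φ)
  let y : PEmpty.{u + 1} → _root_.ModSite.sect (FM O ι) U := fun k => k.elim
  have hy : toMap (M := FM O ι) y = 0 := by
    rw [← cancel_epi (eU O U PEmpty.{u + 1}).hom]
    exact free_hom_ext' fun k : PEmpty.{u + 1} => k.elim
  have w : toMap y ≫ toMap s = 0 := by rw [hy, zero_comp]
  refine ⟨ι, s, (epi_toMap_iff s).1 inferInstance, relI_of_exact s y w ?_⟩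
  rw [ShortComplex.exact_iff_mono _ hy]
  infer_instance

theorem exists_iso_of_lfAt (h : LFAt M U) : ∃ ι : Type u, Nonempty (F (O.over U) ι ≅ ovr M U) := by
  obtain ⟨ι, s, hs, hy⟩ := h
  obtain ⟨f, p, hp, w, ⟨hc⟩⟩ := hasPres_of_pres hs hy
  haveI := CokernelCofork.IsColimit.isIso_π _ hc (free_hom_ext' fun k : PEmpty.{u + 1} => k.elim)
  exact ⟨ι, ⟨asIso (Cofork.π (CokernelCofork.ofπ p w))⟩⟩

theorem lfAt_tensor (h : LFAt M U) (h' : LFAt N U) : LFAt (T M N) U := by
  obtain ⟨ι, ⟨e⟩⟩ := exists_iso_of_lfAt h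
  obtain ⟨ι', ⟨e'⟩⟩ := exists_iso_of_lfAt h'
  exact lfAt_of_iso ((freeTen ι ι').symm ≪≫ tmIso e e' ≪≫ (ExtZero.Restr.restrTensorIso U M N).symm)

theorem cover_and {p q r : C → Prop}
    (hp : ∀ X : C, ∃ S ∈ J X, ∀ ⦃W : C⦄ (g : W ⟶ X), S g → p W)
    (hq : ∀ X : C, ∃ S ∈ J X, ∀ ⦃W : C⦄ (g : W ⟶ X), S g → q W)
    (h : ∀ W, p W → q W → r W) :
    ∀ X : C, ∃ S ∈ J X, ∀ ⦃W : C⦄ (g : W ⟶ X), S g → r W := fun X => by
  obtain ⟨S, hS, hS'⟩ := hp X
  obtain ⟨S', hS1, hS2⟩ := hq X
  exact ⟨S ⊓ S', J.intersection_covering hS hS1, fun W g hg => h W (hS' g hg.1) (hS2 g hg.2)⟩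

theorem permanence (M N : _root_.ModSite.Mod O) :
    (Nonempty (SheafOfModules.LocalGeneratorsData.{u} (R := _root_.ModSite.ringSh O) M) →
      Nonempty (SheafOfModules.LocalGeneratorsData.{u} (R := _root_.ModSite.ringSh O) N) →
        Nonempty (SheafOfModules.LocalGeneratorsData.{u} (R := _root_.ModSite.ringSh O) (T M N))) ∧
    (SheafOfModules.IsFiniteType (R := _root_.ModSite.ringSh O) M →
      SheafOfModules.IsFiniteType (R := _root_.ModSite.ringSh O) N →
        SheafOfModules.IsFiniteType (R := _root_.ModSite.ringSh O) (T M N)) ∧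
    (SheafOfModules.IsQuasicoherent (R := _root_.ModSite.ringSh O) M →
      SheafOfModules.IsQuasicoherent (R := _root_.ModSite.ringSh O) N →
        SheafOfModules.IsQuasicoherent (R := _root_.ModSite.ringSh O) (T M N)) ∧
    (SheafOfModules.IsFinitePresentation (R := _root_.ModSite.ringSh O) M →
      SheafOfModules.IsFinitePresentation (R := _root_.ModSite.ringSh O) N →
        SheafOfModules.IsFinitePresentation (R := _root_.ModSite.ringSh O) (T M N)) ∧
    (SheafOfModules.IsLocallyFree (R := _root_.ModSite.ringSh O) M →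
      SheafOfModules.IsLocallyFree (R := _root_.ModSite.ringSh O) N →
        SheafOfModules.IsLocallyFree (R := _root_.ModSite.ringSh O) (T M N)) := by
  refine ⟨fun h h' => LocGen.nonempty_iff.2 (cover_and (LocGen.nonempty_iff.1 h) (LocGen.nonempty_iff.1 h')
      fun W => genAt_tensor), fun h h' => isFiniteType_iff.2 (cover_and (isFiniteType_iff.1 h) (isFiniteType_iff.1 h')
      fun W => ftAt_tensor), fun h h' => isQuasicoherent_iff.2 (cover_and (isQuasicoherent_iff.1 h) (isQuasicoherent_iff.1 h')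
      fun W => presAt_tensor), fun h h' => ?_, fun h h' => isLocallyFree_iff.2 (cover_and (isLocallyFree_iff.1 h) (isLocallyFree_iff.1 h')
      fun W => lfAt_tensor)⟩
  exact Free.isFinitePresentation_iff.2 (cover_and (Free.isFinitePresentation_iff.1 h)
    (Free.isFinitePresentation_iff.1 h') fun W => finPresAt_tensor)

end Local

end Groth.Agent.Lib.ModSiteLoc.Tensor
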